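import Cfsg.Agent.McLCent.Data
import Mathlib.GroupTheory.Perm.Basic
import Mathlib.Data.Fintype.Perm
import Mathlib.Data.List.GetD

/-!
# The graph on the 35 bisections of eight letters

Every permutation preserving the table of the bisections comes from a permutation of the letters.
-/

set_option autoImplicit false
set_option maxRecDepth 100000
set_option maxHeartbeats 1000000

namespace Cfsg.Agent.McLCent

/-- The side of a letter in a bisection. -/
def side (k : Fin 35) (a : Fin 8) : Bool := (bisections.getD k.val []).getD a.val false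

/-- Two letters on one side. -/
def same (k : Fin 35) (a b : Fin 8) : Bool := side k a == side k b

/-- The table of inner products. -/
def bdot (k l : Fin 35) : ℤ :=
  if k = l then 32 else if ((List.finRange 8).filter fun a => side k a && side l a).length = 2 then 16 else 8

/-- A permutation of the bisections induced by a permutation of the letters. -/
def Induced (σ : Equiv.Perm (Fin 8)) (π : Equiv.Perm (Fin 35)) : Prop :=
  ∀ k a b, same (π k) (σ a) (σ b) = same k a b

theorem induced_one : Induced 1 1 := fun _ _ _ => rfl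

theorem induced_mul {σ σ' : Equiv.Perm (Fin 8)} {π π' : Equiv.Perm (Fin 35)} (h : Induced σ π)
    (h' : Induced σ' π') : Induced (σ * σ') (π * π') := fun k a b => (h _ _ _).trans (h' k a b)

theorem induced_inv {σ : Equiv.Perm (Fin 8)} {π : Equiv.Perm (Fin 35)} (h : Induced σ π) :
    Induced σ⁻¹ π⁻¹ := fun k a b => by
  have := h (π⁻¹ k) (σ⁻¹ a) (σ⁻¹ b)
  simpa using this.symm

theorem same_determines : ∀ k l : Fin 35, (∀ a b, same k a b = same l a b) → k = l := by decide +kernel

theorem pair_determines : ∀ a b c d : Fin 8, a ≠ b → (∀ k, same k a b = same k c d) →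
    (a = c ∧ b = d) ∨ (a = d ∧ b = c) := by decide +kernel

theorem bisection_eq_one {π : Equiv.Perm (Fin 35)} (h : Induced 1 π) : π = 1 :=
  Equiv.ext fun k => same_determines _ _ fun a b => h k a b

theorem letters_eq_one {σ : Equiv.Perm (Fin 8)} (h : Induced σ 1) : σ = 1 := by
  refine Equiv.ext fun a => ?_
  show σ a = a
  by_contra hne
  obtain ⟨b, hba, hbs⟩ : ∃ b : Fin 8, b ≠ a ∧ b ≠ σ a := by
    have key : ∀ a c : Fin 8, ∃ b : Fin 8, b ≠ a ∧ b ≠ c := by decide
    exact key a (σ a)
  rcases pair_determines a b (σ a) (σ b) (Ne.symm hba) fun k => (h k a b).symm with h1 | h1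
  · exact hne h1.1.symm
  · exact hbs h1.2

theorem induced_unique {σ σ' : Equiv.Perm (Fin 8)} {π : Equiv.Perm (Fin 35)} (h : Induced σ π)
    (h' : Induced σ' π) : σ = σ' := by
  have := letters_eq_one (σ := σ⁻¹ * σ') (by simpa using induced_mul (induced_inv h) h')
  exact inv_mul_eq_one.1 this

/-- The letter map of an entry. -/
def entryS (e : List (Fin 8) × List (Fin 35)) (a : Fin 8) : Fin 8 := e.1.getD a.val 0

/-- The bisection map of an entry. -/
def entryP (e : List (Fin 8) × List (Fin 35)) (k : Fin 35) : Fin 35 := e.2.getD k.val 0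

/-- The base points. -/
def base (m : ℕ) : Fin 35 := baseIdx.getD m 0

theorem entries_ok : ∀ row ∈ chain, ∀ e ∈ row, Function.Bijective (entryS e) ∧ Function.Bijective (entryP e) ∧
    ∀ k a b, same (entryP e k) (entryS e a) (entryS e b) = same k a b := by decide +kernel

theorem entries_bdot : ∀ row ∈ chain, ∀ e ∈ row, ∀ k l, bdot (entryP e k) (entryP e l) = bdot k l := by
  decide +kernel

theorem chain_step : ∀ n < 6, ∀ c : Fin 35, (∀ m < n, bdot (base m) c = bdot (base m) (base n)) →
    ∃ e ∈ chain.getD n [], (∀ m < n, entryP e (base m) = base m) ∧ entryP e c = base n := by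
  decide +kernel

theorem base_determines : ∀ k l : Fin 35, (∀ m < 6, bdot (base m) k = bdot (base m) l) → k = l := by
  decide +kernel

theorem chain_length : chain.length = 6 := by decide +kernel

theorem induced_of_bdot {π : Equiv.Perm (Fin 35)} (h : ∀ k l, bdot (π k) (π l) = bdot k l) :
    ∃ σ, Induced σ π := by
  suffices H : ∀ n ≤ 6, ∀ π : Equiv.Perm (Fin 35), (∀ k l, bdot (π k) (π l) = bdot k l) →
      (∀ m < 6 - n, π (base m) = base m) → ∃ σ, Induced σ π from
    H 6 le_rfl π h fun m hm => absurd hm (by omega)
  intro n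
  induction n with
  | zero =>
    intro _ π hπ hfix
    refine ⟨1, ?_⟩
    have : π = 1 := Equiv.ext fun k => base_determines _ _ fun m hm => by
      show bdot (base m) (π k) = bdot (base m) k
      rw [← hfix m (by omega), hπ, hfix m (by omega)]
    rw [this]
    exact induced_one
  | succ n ih =>
    intro hn π hπ hfix
    obtain ⟨e, he, hefix, hec⟩ := chain_step (6 - (n + 1)) (by omega) (π (base (6 - (n + 1)))) fun m hm => by
      rw [← hfix m hm, hπ, hfix m hm]
    have hrow : chain.getD (6 - (n + 1)) [] ∈ chain := by
      rw [List.getD_eq_getElem _ _ (by rw [chain_length]; omega)]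
      exact List.getElem_mem _
    obtain ⟨hS, hP, hI⟩ := entries_ok _ hrow e he
    set ρ : Equiv.Perm (Fin 35) := Equiv.ofBijective _ hP with hρ
    set τ : Equiv.Perm (Fin 8) := Equiv.ofBijective _ hS with hτ
    have hIτ : Induced τ ρ := hI
    obtain ⟨σ, hσ⟩ := ih (by omega) (ρ * π)
      (fun k l => (entries_bdot _ hrow e he _ _).trans (hπ k l)) fun m hm => by
        show entryP e (π (base m)) = base m
        rcases (show m < 6 - (n + 1) ∨ m = 6 - (n + 1) by omega) with hm' | rfl
        · rw [hfix m hm']; exact hefix m hm'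
        · exact hec
    exact ⟨τ⁻¹ * σ, by simpa using induced_mul (induced_inv hIτ) hσ⟩

end Cfsg.Agent.McLCent
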