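import Mathlib.Data.List.Range

/-!
# Certificates for the involution centraliser of the McLaughlin group
-/

set_option autoImplicit false

namespace Cfsg.Agent.McLCent

/-- Elements conjugating involutions of the 2-group to the central one. -/
def conjList : List (List Nat) := [
  [0,1,10,6,5,8,17,7,4,2,9,18,14,12,13,15,19,3,21,22,20,11,16,23],
  [0,1,12,8,19,2,15,21,7,17,4,14,13,5,11,6,16,18,20,22,9,3,10,23],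
  [0,1,14,9,12,22,18,21,3,11,16,17,2,7,19,15,13,8,5,4,6,10,20,23],
  [0,1,2,3,4,5,6,7,8,9,10,11,12,13,14,15,16,17,18,19,20,21,22,23],
  [0,1,22,8,18,19,10,17,13,21,3,2,4,6,9,15,20,14,16,11,12,7,5,23],
  [0,1,5,8,10,4,11,21,18,17,2,6,22,12,15,14,16,7,20,13,3,9,19,23],
  [0,10,15,13,16,14,6,7,8,9,1,11,21,3,5,2,4,22,19,18,20,12,17,23],
  [0,10,3,11,22,12,15,4,8,5,21,1,13,19,9,20,2,14,6,17,7,16,18,23],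
  [0,11,19,20,9,3,15,10,12,18,5,6,22,17,1,14,16,4,13,8,7,21,2,23],
  [0,11,21,18,7,17,15,10,22,13,9,14,2,4,6,1,16,3,20,19,5,8,12,23],
  [0,11,8,18,13,12,15,19,22,7,9,16,3,4,1,6,14,2,5,10,20,21,17,23],
  [0,12,21,1,18,3,6,5,4,10,17,11,7,9,22,13,19,15,16,8,2,14,20,23],
  [0,13,10,4,8,7,16,18,22,12,2,14,15,1,19,21,3,9,5,11,17,20,6,23],
  [0,14,20,10,21,17,16,9,7,3,8,1,13,2,6,15,11,19,12,4,18,5,22,23],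
  [0,14,22,5,17,10,11,20,19,4,7,1,8,18,15,6,16,13,9,2,3,21,12,23],
  [0,15,10,5,21,22,6,12,3,20,9,16,4,19,14,1,11,13,17,18,2,7,8,23],
  [0,15,3,7,21,13,16,4,20,5,19,14,18,22,11,6,1,2,8,17,9,10,12,23],
  [0,16,13,5,11,6,12,15,1,21,19,22,4,10,17,14,18,7,2,8,3,9,20,23],
  [0,16,13,7,4,17,14,3,10,9,8,11,20,2,6,15,1,5,18,21,12,19,22,23],
  [0,17,19,9,14,16,3,12,22,1,13,21,5,20,11,18,6,2,4,7,15,8,10,23],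
  [0,17,21,2,22,12,1,16,14,11,3,15,7,5,13,18,19,10,9,8,6,20,4,23],
  [0,19,5,15,7,9,12,10,4,8,2,22,17,14,6,13,11,3,21,16,20,1,18,23],
  [0,2,8,21,7,9,11,12,22,13,20,6,15,14,4,5,10,3,17,1,19,18,16,23],
  [0,21,2,1,10,7,16,5,20,9,8,14,22,17,19,3,13,6,11,18,4,15,12,23],
  [0,22,2,7,10,9,15,6,16,14,20,1,13,19,12,21,3,5,4,17,11,8,18,23],
  [0,3,4,17,7,10,13,5,20,2,9,19,11,22,16,21,14,15,1,12,8,18,6,23],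
  [0,3,9,13,2,20,1,16,6,14,10,15,5,8,22,12,21,17,19,7,11,18,4,23],
  [0,4,18,2,22,17,14,21,19,3,12,16,6,15,20,5,9,7,8,1,13,10,11,23],
  [0,5,6,18,9,20,7,16,14,2,11,8,12,19,1,4,15,22,21,17,10,13,3,23],
  [0,6,12,20,8,2,1,17,22,10,18,11,13,5,16,15,14,3,19,9,7,4,21,23],
  [0,6,17,18,7,21,14,19,2,4,9,15,22,13,11,1,16,3,8,10,12,20,5,23],
  [0,6,21,12,13,5,1,7,17,10,9,11,3,4,14,16,15,8,18,19,22,2,20,23],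
  [0,6,7,5,20,13,14,4,21,10,12,1,19,8,16,15,11,17,2,22,18,3,9,23],
  [0,9,1,2,11,15,14,22,18,12,6,16,3,13,20,4,5,10,7,19,17,8,21,23],
  [0,9,15,13,1,16,6,3,18,17,14,11,4,2,8,7,20,12,22,5,21,19,10,23]]

/-- Words giving the conjugates of the central involution in increasing order. (part). -/
def classWords0 : List (List Nat) := [
  [3,5,2,1],
  [6,8,2,2],
  [2,7,1,0],
  [1,6,1],
  [8,1,1],
  [5,0,3],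
  [8,2,3,0],
  [7,8,3],
  [3,6,6,0],
  [7,7,5],
  [0,7,7],
  [1,7,2],
  [7,3,0],
  [2,7,0,1],
  [4,6,3],
  [6,1,6,0],
  [5,4,5],
  [6,4,8,5],
  [8,2,4],
  [3,6,6],
  [6,6,2,1],
  [2,6,0],
  [3,0,6],
  [0,1,5,0],
  [2,4,5,2],
  [3,6,7,0],
  [4,0],
  [8,8],
  [1,7,5],
  [3,4,4,3],
  [0,6,2],
  [5,1,0,4],
  [3,8,1,0],
  [0,7,7,0],
  [6,7,3,0],
  [4,0,0],
  [6,2,5,0],
  [3,7,6,1],
  [6,7,2],
  [6,8,0,0],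
  [4,8,2,2],
  [5,0,6,3],
  [3,6,2],
  [3,8,3,3],
  [4,0,3],
  [7,8,2],
  [0,7,3,2],
  [2,4,2],
  [4,2,3],
  [1,2,5,1],
  [4,8,3,0],
  [3,2,6,0],
  [4,6,0],
  [3,4,1],
  [5,5,2,1],
  [7,2,3],
  [1,4,2,1],
  [5,5,5,0],
  [4,8,2],
  [0,3,6,0],
  [1,0,3,0],
  [6,8,4,3],
  [5,5,2,4],
  [5,7,8,0],
  [3,3,2],
  [3,0,6,0],
  [5,7,4,2],
  [0,5,5,0],
  [3,5,6,0],
  [6,6],
  [0,0,5,3],
  [3,7,6],
  [2,4,5],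
  [6,3,7,0],
  [6,2,1],
  [8,7,7,0],
  [6,5,5],
  [3,4,4],
  [8,0,6,0],
  [7,1,5,2],
  [2,5,6,1],
  [7,8,1],
  [8,7,3,0],
  [8,5,0],
  [3,4,0,0],
  [1,8,5,2],
  [2,4,0,3],
  [0,0,0],
  [8,7,0,1],
  [8,0,5],
  [4,3,3,8],
  [1,0,6],
  [6,0,3,0],
  [8,2,5,5],
  [4,5,1,2],
  [1,5,8,0],
  [0,0,7,1],
  [5,6,7,0],
  [2,5],
  [3,0,4,0]]

/-- Words giving the conjugates of the central involution in increasing order. (part). -/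
def classWords1 : List (List Nat) := [
  [6,8,2,3],
  [2,7,7],
  [0,7,6],
  [6,7,0,3],
  [2,8,4],
  [1,2,7,4],
  [5,1,2],
  [6,3,8,1],
  [2,8,7,0],
  [6,3,4,1],
  [8,8,1,2],
  [6,2,1,1],
  [8,0,8],
  [0,0],
  [6,2,3,2],
  [0,6,3],
  [4,6,4],
  [7,3,3,0],
  [0,5,6,0],
  [3,3,8],
  [1,0,1],
  [8,0,5,1],
  [6,8,1,0],
  [5,7,2,3],
  [2,4,0,4],
  [1,2,3],
  [2,8,2],
  [6,7,6,4],
  [6,0,1],
  [4,0,4],
  [1,5,3],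
  [5,3],
  [3,3,7],
  [2,3,0],
  [3,8,8],
  [8,7,2,1],
  [4,1,7,4],
  [7,6,7,0],
  [0,7,6,0],
  [6,7,1],
  [0,0,3],
  [6,0,0,0],
  [1,8],
  [6,1,8,0],
  [0,1,0],
  [7,0,6],
  [8,3,7],
  [0,1,8,3],
  [5,3,7],
  [6,1,0],
  [7,4,4,0],
  [6,2,2],
  [8,8,7],
  [7,3,2],
  [2,3],
  [4,4],
  [0,6,4,3],
  [1,4,1],
  [0,7,4,1],
  [7,6,4],
  [3,4,6,0],
  [6,8,3],
  [2,2,1],
  [2,5,3],
  [5,8,2],
  [7,5],
  [7,2,1,5],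
  [8,2,1,0],
  [0,8,3,3],
  [7,5,2],
  [1,1,6],
  [7,6,1],
  [3,5,5,4],
  [5,0,7,5],
  [5,4,2,1],
  [8,7,5,0],
  [0,6],
  [3,5,4,1],
  [2,3,4],
  [0,1,6],
  [4,8,6,3],
  [2,7,4,2],
  [4,6,7],
  [8,1],
  [1,5,0,3],
  [2,7,6,1],
  [3,3,4,0],
  [0,7,2,1],
  [0,0,4,0],
  [5,0,3,0],
  [3,5,1],
  [6,7,2,1],
  [7,5,5,1],
  [6,7,4],
  [8,0,0],
  [0,6,0],
  [3,7,2,2],
  [1,6,3],
  [2,1,1],
  [6,4,8,1]]

/-- Words giving the conjugates of the central involution in increasing order. (part). -/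
def classWords2 : List (List Nat) := [
  [2,6,8,0],
  [4,5,2],
  [1,1,1,0],
  [8,0,7],
  [4,7,5],
  [6,4,1,4],
  [0,6,2,2],
  [6,0,1,1],
  [5,5,7],
  [0,7,1],
  [1,4,3,0],
  [4,1,8],
  [2,2,3,0],
  [3,4],
  [4,6,1,0],
  [8,1,2,2],
  [5,1,6,5],
  [5,0,7,2],
  [4,5,5,2],
  [7,7,2,1],
  [8,4,0,3],
  [7,5,0,4],
  [8,8,7,0],
  [6,1,7,0],
  [1,4,7,5],
  [7,7,6],
  [8,2,4,0],
  [8,1,0,0],
  [2,4,3],
  [3,4,5,7],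
  [6,4],
  [5,1,8],
  [1,4,8,3],
  [5,2],
  [6,5,1],
  [6,3,0],
  [5,0,5],
  [7,6,3,0],
  [6,1,1,0],
  [6,0,8],
  [2,2,5],
  [8,0,3,0],
  [5,8,5,0],
  [5,5,7,1],
  [0,1,1],
  [6,6,1,0],
  [1,2,6,2],
  [3,0],
  [5,6,7,1],
  [0,0,1,0],
  [6,8,8,0],
  [5,5,1,0],
  [2,7,6],
  [3,2,3],
  [7,8,8],
  [8,2,3,2],
  [4,7,1,2],
  [2,8,2,4],
  [7,8,3,0],
  [1,1,0],
  [6,8,1,1],
  [1,7,0],
  [6,1,4,0],
  [7,0,4,4],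
  [8,6,6,2],
  [5,8,4],
  [3,6,1],
  [4],
  [0,8],
  [5,8,1],
  [2,4,8,2],
  [5,1],
  [2,1,4,0],
  [3,4,6,2],
  [1,4,6,0],
  [7,3,3,7],
  [4,1,4],
  [5,3,4,3],
  [3,8,8,0],
  [6,1,4],
  [6,6,0],
  [0,4,0,0],
  [6,4,1],
  [5,2,3],
  [4,1,6,0],
  [2,6,3],
  [5,8],
  [0,7,5,1],
  [8,7,7,1],
  [3,8,3],
  [8,7,5],
  [2,7,2],
  [3,0,8],
  [7,8,0],
  [8,7,2],
  [7,4,6,3],
  [0,1,2],
  [3,3,5],
  [1,6,5,0],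
  [7,4,6,4]]

/-- Words giving the conjugates of the central involution in increasing order. (part). -/
def classWords3 : List (List Nat) := [
  [3,7,5,2],
  [5,4,1],
  [7,2,5,2],
  [1,5,4,1],
  [4,1,6],
  [1,6,5],
  [0,1],
  [7,5,6,2],
  [8,3,4,0],
  [5,0,1],
  [1,5,0],
  [7,5,0,0],
  [5,3,5,3],
  [0,4,1],
  [1,8,1,4],
  [7,6,5,0],
  [1,1,6,3],
  [0,1,5,1],
  [6,6,6,0],
  [7,7,4],
  [5,4,8,0],
  [3,8,2,3],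
  [6,5,4],
  [7,4,7,0],
  [0,4,3],
  [7,0,1,0],
  [2,5,7],
  [1,7,0,1],
  [5],
  [6,0,4],
  [8,2],
  [7,5,8],
  [6,7,4,1],
  [0,7,5],
  [6,3,5],
  [5,0],
  [4,7,8,1],
  [1,8,8],
  [5,5,5],
  [2,1,6,2],
  [8,0,0,0],
  [8,5],
  [7,2],
  [5,7,1],
  [3,0,5],
  [8,8,4,3],
  [7,5,8,0],
  [8,3,0,5],
  [6,6,4],
  [7,8,6,5],
  [3,0,6,1],
  [3,2,4,2],
  [7,0,0,1],
  [8,7,1],
  [3,7,7,0],
  [8,7,0,0],
  [0,7,8],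
  [2,2],
  [3,0,5,2],
  [5,6,4,4],
  [1,6,6,0],
  [8,0,4],
  [3,5,0,1],
  [4,2],
  [2,7,0],
  [1,8,3],
  [5,8,1,1],
  [7,8,4],
  [8,4],
  [5,1,7,2],
  [7,5,5,2],
  [6,0,8,0],
  [3,0,3,0],
  [7,2,1],
  [2,4],
  [5,3,0,1],
  [0,5,2],
  [8,2,3,5],
  [3,0,3],
  [1,8,0,0],
  [8,8,4],
  [0,0,1],
  [2,4,6,2],
  [6,2,2,2],
  [5,6,5,0],
  [0,5,7,1],
  [5,2,1,0],
  [4,5,7],
  [0,4,4,3],
  [7,8,4,0],
  [6,0,0],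
  [0,5,5],
  [8,3,5],
  [7,2,4,1],
  [2,8,8],
  [5,5,0],
  [3,5,5,5],
  [1,4,0,1],
  [5,5,4,1],
  [3,3,7,0]]

/-- Words giving the conjugates of the central involution in increasing order. (part). -/
def classWords4 : List (List Nat) := [
  [0,4,8,1],
  [6,5,0,1],
  [7,7,1],
  [7,2,2],
  [6,4,3,2],
  [6,1],
  [5,8,2,2],
  [4,4,5],
  [5,6,1],
  [5,5,3,0],
  [0,1,8],
  [8,5,6,0],
  [2,1],
  [1,4,0,0],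
  [8,8,5],
  [7,5,1,1],
  [7,0,4,1],
  [6,8,7],
  [0,5,1],
  [1,1,6,0],
  [0,7,7,4],
  [4,2,8,4],
  [5,7,2],
  [1,8,2,3],
  [2,1,0],
  [2,4,7],
  [6,8,5,0],
  [8,6,2],
  [6,8,1],
  [2,8,8,3],
  [2,5,1,0],
  [0,4,6,1],
  [6,8,4],
  [0,5,0,0],
  [6,2,4,1],
  [8,8,5,2],
  [6,7,5,0],
  [2,3,7],
  [6,1,6,1],
  [7,0,0],
  [4,4,1],
  [2,7,8,1],
  [5,2,7],
  [5,6,2],
  [1,4,7,0],
  [4,0,8,1],
  [],
  [8,7,6,1],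
  [3,2,4,1],
  [1,0,4,1],
  [8,8,0,1],
  [1,0,8],
  [8,0,4,0],
  [4,0,1],
  [2,7,2,6],
  [0,3,5,1],
  [8,5,8],
  [7,4,0,0],
  [8,5,5],
  [6,1,5],
  [5,8,4,2],
  [7,5,7],
  [2,4,1],
  [3,8,1,1],
  [0,1,6,2],
  [7,7,4,0],
  [7,8,0,1],
  [8,1,7,0],
  [6,8,6,0],
  [8,4,8],
  [7],
  [0,0,5],
  [4,3,8],
  [4,8,1],
  [0,4,5],
  [5,6],
  [4,3,6,5],
  [1,7,5,3],
  [3,0,4],
  [4,5,2,1],
  [2,8,1,1],
  [1,8,8,3],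
  [3,5,1,0],
  [2,5,0,0],
  [0,3,2],
  [3,3,8,0],
  [8,4,5,2],
  [8,6,0],
  [1,2,2],
  [4,2,4,0],
  [2,1,4,2],
  [6,2,4,0],
  [2,2,2,1],
  [1,1,4],
  [8,4,5],
  [3,4,2],
  [1,4,4,0],
  [2,8,2,1],
  [0,1,7,0],
  [4,2,4]]

/-- Words giving the conjugates of the central involution in increasing order. (part). -/
def classWords5 : List (List Nat) := [
  [0,6,4,1],
  [0,6,2,3],
  [6,4,6,0],
  [2],
  [8,2,7,0],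
  [5,7],
  [6,2,4],
  [5,1,1,0],
  [1,6,4,1],
  [5,1,1],
  [8,1,6],
  [7,4,8,2],
  [2,1,6,1],
  [2,6,1],
  [3,8,2,1],
  [4,4,4,1],
  [5,8,4,0],
  [3,8,0],
  [7,6,2,1],
  [1,0,6,0],
  [0,5,6,2],
  [5,5,1,1],
  [1,5,1,0],
  [1,8,7],
  [6,2,7,0],
  [8,2,1],
  [0,3,4,1],
  [6,2,6,0],
  [7,3,8],
  [7,5,4],
  [5,1,5],
  [4,1,5,0],
  [1,1],
  [0,0,3,0],
  [7,1,5,0],
  [0,7,0,3],
  [2,6],
  [4,3],
  [7,2,6,0],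
  [7,4,7],
  [5,6,3,2],
  [3,2],
  [1,6,7,1],
  [8,5,1,0],
  [5,7,7],
  [1,8,4],
  [6,4,0],
  [3,2,2],
  [3,3,0],
  [7,7,5,4],
  [4,0,0,1],
  [2,2,7],
  [0,3,0,1],
  [4,0,8],
  [0,8,8,2],
  [1,8,1],
  [8,4,4],
  [7,4,7,2],
  [8,1,6,3],
  [1,5,0,1],
  [4,1,2],
  [7,6,4,1],
  [8,3,3],
  [8,4,6,0],
  [0,0,6,2],
  [4,8,7],
  [6,7,5,1],
  [2,1,2,2],
  [1,4,2],
  [0,4,2,3],
  [5,5,2],
  [6,0,1,0],
  [3,6,0,0,0],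
  [1,1,2,1],
  [3,8,2],
  [7,6,0,0],
  [2,5,6,3],
  [8,3,6,1],
  [8,4,0],
  [0,3,4],
  [3,5,3],
  [6,8,5,4],
  [0,0,8],
  [3,6,2,2],
  [0,8,3,0],
  [5,4,5,1],
  [8,1,0],
  [5,4],
  [1,4],
  [1,2,3,5],
  [5,7,8,2],
  [4,5,1],
  [2,1,5],
  [1,7,8,2],
  [1,5,2],
  [5,2,4],
  [5,4,2],
  [4,7,2],
  [8,5,1,8],
  [7,5,1]]

/-- Words giving the conjugates of the central involution in increasing order. (part). -/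
def classWords6 : List (List Nat) := [
  [0,7],
  [3,5,5,0],
  [3,8,7],
  [5,4,4,0],
  [4,8,0],
  [6,4,4],
  [4,4,8],
  [8,7,0],
  [7,7],
  [2,7,5,0],
  [3,7,1,2],
  [2,2,4],
  [7,5,0],
  [4,6,5,0],
  [4,5,0,0],
  [4,1,4,1],
  [6,1,0,4],
  [5,0,6,0],
  [0,8,1],
  [2,4,5,0],
  [0,6,4],
  [2,8,4,2],
  [8,8,8,0],
  [6,2,4,2],
  [6,5],
  [7,6,1,4],
  [2,5,5],
  [8,6,7,1],
  [7,4],
  [0,8,8,1],
  [5,1,7,0],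
  [0,5,2,1],
  [7,6,1,1],
  [7,1],
  [1,8,3,2],
  [2,7,2,1],
  [4,7,3,0],
  [6,4,4,2],
  [8,5,0,1],
  [0,4,8],
  [7,0,4,2],
  [7,1,0],
  [7,3,7,1],
  [8,3,3,4],
  [8,0],
  [7,0,6,1],
  [5,3,7,2],
  [0,1,8,1],
  [6,8,5],
  [6,6,2],
  [1,7,7],
  [0,7,8,1],
  [5,3,5],
  [4,1,7,8],
  [8,8,0],
  [4,0,1,0],
  [1,1,5],
  [6,5,6,0],
  [3,8,5],
  [0,3,0],
  [8,3,7,1],
  [5,2,5,2],
  [7,0,3],
  [6,6,3,0],
  [5,8,8],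
  [5,6,5,5],
  [3,7,2],
  [4,6,2],
  [2,3,3],
  [4,8,6,2],
  [7,8,5],
  [8,4,7,0],
  [8,4,0,0],
  [4,2,4,1],
  [2,7,3,0],
  [5,8,5],
  [2,5,8,0],
  [2,4,6,0],
  [2,5,0],
  [0,4,7,0],
  [7,0,1,2],
  [4,0,1,1],
  [3,7,5,0],
  [3,0,8,1],
  [8,4,3],
  [3,7,7],
  [4,2,1,0],
  [1,0,5,0],
  [1,5,7],
  [0,1,5,2],
  [3,7,1],
  [3,4,8,0],
  [0,6,1,0],
  [4,0,7],
  [0,4,8,0],
  [8,7,4,0],
  [8,1,5],
  [5,2,1,1],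
  [5,8,5,5],
  [5,0,6]]

/-- Words giving the conjugates of the central involution in increasing order. (part). -/
def classWords7 : List (List Nat) := [
  [7,4,0],
  [6,3,3],
  [1,5,7,2],
  [7,0,0,5],
  [3,6,5],
  [7,5,5,0],
  [0,3,7],
  [8,3,2],
  [7,2,2,4],
  [1,0,5],
  [1,0,8,2],
  [8,4,3,0],
  [2,1,5,1],
  [1,2],
  [3,0,4,8],
  [5,0,4,0],
  [0,5,3,0],
  [3,0,7],
  [4,6,6,0],
  [6,7,0],
  [2,1,0,4],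
  [0,7,3,0],
  [6,1,5,1],
  [8,4,1,2],
  [2,1,1,0],
  [5,6,0,0],
  [4,7,1],
  [4,5,2,3],
  [6],
  [4,3,6,2],
  [7,6,5,1],
  [8,5,4],
  [5,6,3],
  [5,8,6,6],
  [4,5,0],
  [1,4,5,0],
  [3,0,5,3],
  [8,8,1,0],
  [4,6,8,0],
  [7,6],
  [6,0,5],
  [1,2,5,0],
  [8,1,4,2],
  [1,5,6],
  [5,8,7,0],
  [2,8,3,0],
  [0,5,0],
  [1,5,2,3],
  [6,6,7,0],
  [8,7,5,1],
  [7,1,4,2],
  [3,6,0],
  [2,8,3],
  [7,6,2],
  [1,0,3],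
  [2,6,5,0],
  [8,1,4],
  [0,0,8,0],
  [4,1,1,0],
  [0,3,3],
  [1,5,6,3],
  [3,4,3],
  [1,2,7],
  [1,0,8,1],
  [5,4,2,3],
  [8,5,5,1],
  [8,6,6,0],
  [5,4,0,1],
  [6,2,3],
  [3,8,0,0],
  [7,7,2,2],
  [3,2,7,2],
  [2,6,5],
  [0,7,1,0],
  [6,8,2],
  [3,2,8,2],
  [8,5,5,4],
  [8,0,1],
  [5,6,6,0],
  [3,0,0,0],
  [4,3,6,6],
  [0,4],
  [3,2,5,0],
  [8,3,0],
  [2,3,2],
  [3,5,0,1,0],
  [1,6,2],
  [3,7,5],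
  [4,7,0,1],
  [3,2,5],
  [6,2,6,3],
  [0,6,5,0],
  [3,7,8],
  [3,5,8],
  [4,3,7,0],
  [2,6,2],
  [0,3],
  [7,6,0],
  [1,6],
  [8,7,8]]

/-- Words giving the conjugates of the central involution in increasing order. (part). -/
def classWords8 : List (List Nat) := [
  [6,3,2],
  [5,3,4],
  [1,4,8,0],
  [8,0,6],
  [7,8,6,0],
  [4,7,7],
  [8,1,1,0],
  [8,7,4,7],
  [3,7],
  [8,2,4,1],
  [6,6,8,0],
  [0,8,6,2],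
  [4,0,6],
  [8,2,6,0],
  [4,3,3],
  [5,1,4,1],
  [8,6,5,0],
  [2,3,6,1],
  [8,8,3],
  [5,8,4,1],
  [7,8,7,0],
  [7,6,2,3],
  [4,3,0,6],
  [2,4,0],
  [4,7],
  [5,8,3,5],
  [0,0,5,1],
  [1],
  [1,8,1,2],
  [5,3,5,1],
  [1,0,5,1],
  [3,4,3,0],
  [0,6,1],
  [1,5,5],
  [8,4,2,4],
  [7,1,2],
  [1,0],
  [5,1,0],
  [6,7,4,2],
  [1,7,1,2],
  [0],
  [3,7,0],
  [1,7,8],
  [2,7,1],
  [3,3,4],
  [2,2,2],
  [4,1],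
  [7,2,6],
  [5,3,4,1],
  [4,8,0,1],
  [4,7,6,3],
  [2,5,1,1],
  [7,0,1],
  [0,5,0,3],
  [3,0,7,1],
  [7,8,1,0],
  [0,8,1,1],
  [8,7,6],
  [2,6,4,3],
  [5,6,1,0],
  [6,0],
  [0,4,0],
  [4,0,8,0],
  [2,3,5,1],
  [6,1,2],
  [8,5,3],
  [3,8,1],
  [7,6,3],
  [7,1,5,1],
  [3,8,4],
  [2,7,7,0],
  [0,1,2,2],
  [0,3,4,2],
  [8,2,6,5],
  [5,0,0],
  [2,1,2],
  [1,2,3,2],
  [6,0,3],
  [3,2,7,7],
  [4,5],
  [6,7,6],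
  [6,2,5,2],
  [5,2,4,3],
  [5,6,0],
  [1,6,0],
  [6,6,5],
  [7,1,4],
  [8,4,1],
  [7,3,2,2],
  [6,5,7],
  [0,3,2,2],
  [8,5,4,5],
  [0,6,4,0],
  [4,4,2],
  [5,8,8,0],
  [6,3,7],
  [7,6,5,7],
  [7,3,5],
  [7,0,6,0],
  [2,7]]

/-- Words giving the conjugates of the central involution in increasing order. (part). -/
def classWords9 : List (List Nat) := [
  [5,8,2,1],
  [4,1,4,4],
  [7,7,2],
  [5,5,0,0],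
  [8,6,4,0],
  [2,1,4,4],
  [4,6,5],
  [2,5,1],
  [8,4,6,2],
  [5,2,2,1],
  [6,5,3],
  [2,5,5,0],
  [2,4,4,3],
  [6,3,7,1],
  [5,5,4],
  [2,6,7,0],
  [5,0,4],
  [3,5,3,5],
  [6,0,7],
  [7,5,3],
  [1,5],
  [5,6,4],
  [2,2,1,5],
  [5,2,3,0],
  [7,7,5,0],
  [0,4,4],
  [3,5,5],
  [7,3,8,7],
  [0,0,0,3],
  [0,4,0,4],
  [2,8,5,2],
  [8,0,5,0],
  [0,5,3],
  [2,5,0,1],
  [4,3,7,1],
  [3],
  [7,2,4],
  [8,4,2],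
  [6,2,6,6],
  [5,5],
  [0,0,7],
  [1,7,4],
  [8,3,6,2],
  [7,5,6,0],
  [6,5,2],
  [4,6,2,1],
  [0,7,5,0],
  [2,5,2],
  [5,2,6,1],
  [7,2,1,0],
  [5,4,6,1],
  [4,6,2,2],
  [6,1,1],
  [0,0,6],
  [2,4,6,1],
  [7,4,2],
  [4,5,3],
  [6,6,4,0],
  [5,5,1],
  [7,8,7,1],
  [3,4,7,0],
  [0,8,0],
  [8,6,0,1],
  [2,3,6,0],
  [2,1,0,3],
  [6,2,1,2],
  [0,8,8,0],
  [3,3],
  [7,4,3,0],
  [3,5,8,2],
  [4,3,3,0],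
  [5,8,0],
  [3,0,1],
  [5,7,6],
  [1,7,2,1],
  [1,6,4],
  [6,8,0],
  [2,3,8,0],
  [8,6,2,4],
  [6,7,5],
  [3,8],
  [4,5,6],
  [8,8,1],
  [2,1,5,0],
  [1,5,1],
  [4,3,2],
  [6,7],
  [7,1,6,1],
  [6,8,3,3],
  [1,5,0,0],
  [5,4,4,3],
  [3,3,7,2],
  [6,4,6,2],
  [5,8,1,0],
  [1,2,6,1],
  [8,6,3],
  [6,8,7,2],
  [2,8,7],
  [2,4,7,0],
  [1,4,0]]

/-- Words giving the conjugates of the central involution in increasing order. (part). -/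
def classWords10 : List (List Nat) := [
  [6,1,4,2],
  [4,7,6,0],
  [6,2,7],
  [2,2,5,0],
  [0,1,1,0],
  [3,6,8,0],
  [2,4,4],
  [4,2,6],
  [8,3],
  [6,5,0],
  [4,4,5,0],
  [1,4,7],
  [3,8,0,1],
  [6,1,5,0],
  [0,4,5,0],
  [4,0,4,0],
  [0,4,7,1],
  [1,0,4],
  [4,1,8,0],
  [8,8,2],
  [6,3],
  [0,7,8,0],
  [6,5,1,2],
  [4,4,8,0],
  [2,3,5],
  [1,8,0],
  [0,5,2,3],
  [4,4,0],
  [8,7,7],
  [0,6,6,0],
  [0,5,4,1],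
  [1,8,8,0],
  [5,3,7,0],
  [2,7,4],
  [8,2,1,2],
  [8],
  [1,7,0,0],
  [7,6,3,5],
  [1,0,0],
  [6,2],
  [3,5,7,2],
  [8,8,1,1],
  [1,8,1,0],
  [3,0,5,0],
  [2,1,4],
  [5,3,8],
  [8,2,7],
  [7,6,5],
  [5,0,1,0],
  [0,8,2],
  [7,0,3,2],
  [5,6,6,2],
  [6,6,7,2],
  [0,7,2],
  [0,5],
  [2,6,6],
  [4,4,4,3],
  [7,6,4,0],
  [2,4,8],
  [5,7,8],
  [2,6,2,1],
  [3,0,3,2],
  [6,7,1,0],
  [4,8,3],
  [2,6,4],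
  [1,2,3,0],
  [6,4,5,0],
  [4,5,8,1],
  [7,4,1],
  [4,8,5],
  [6,0,1,2],
  [0,4,2],
  [6,5,5,0],
  [7,0],
  [4,3,4],
  [8,6,5],
  [1,2,1],
  [5,8,7,1],
  [0,6,0,0],
  [2,2,1,1],
  [7,5,5],
  [4,5,5],
  [7,8,8,0],
  [3,6,6,2],
  [4,8,8],
  [5,3,3],
  [0,4,2,1],
  [7,7,0],
  [0,1,6,0],
  [0,4,3,0],
  [2,7,0,0],
  [1,4,0,6],
  [4,4,3],
  [0,3,7,0],
  [2,7,5,1],
  [0,1,5],
  [3,6,5,2],
  [2,1,6],
  [1,8,3,0],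
  [4,8]]

/-- Words giving the conjugates of the central involution in increasing order. (part). -/
def classWords11 : List (List Nat) := [
  [6,5,4,2],
  [4,2,5,0],
  [6,2,7,1],
  [6,0,4,1],
  [1,5,4],
  [1,4,4],
  [3,0,3,4],
  [7,0,4],
  [7,8],
  [6,1,0,5],
  [5,3,0],
  [6,6,5,1],
  [4,7,0],
  [0,4,3,4],
  [0,3,4,0],
  [8,6,1,0],
  [6,7,0,1],
  [5,5,8],
  [3,8,6,0],
  [5,1,5,1],
  [2,2,2,7],
  [6,4,3],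
  [7,7,7],
  [1,6,1,2],
  [2,2,3],
  [4,4,5,3],
  [6,8,8],
  [4,2,2],
  [0,8,3],
  [2,7,6,0],
  [7,2,7,0],
  [6,6,0,0],
  [5,7,1,0],
  [8,2,2],
  [8,2,3],
  [8,0,3,3],
  [5,2,1],
  [7,7,0,3],
  [1,6,7],
  [4,6,1],
  [4,3,0],
  [8,5,5,0],
  [4,4,0,3],
  [8,7],
  [3,4,0],
  [8,6,6],
  [8,1,2],
  [3,5],
  [8,5,1,1],
  [2,2,2,3],
  [4,2,1],
  [8,1,5,0],
  [8,5,2],
  [5,8,5,4],
  [8,3,5,1]]

/-- Words giving the conjugates of the central involution in increasing order. -/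
def classWords : List (List Nat) :=
  classWords0 ++ classWords1 ++ classWords2 ++ classWords3 ++ classWords4 ++ classWords5 ++ classWords6 ++ classWords7 ++ classWords8 ++ classWords9 ++ classWords10 ++ classWords11

/-- An element of order three commuting with the involution. -/
def threeElt : List Nat := [0,11,2,18,7,8,16,9,20,4,10,14,21,13,1,6,15,12,22,19,5,17,3,23]

/-- A square root of the involution. -/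
def rootElt : List Nat := [0,15,9,13,7,8,6,5,4,10,20,11,18,21,16,1,14,12,22,3,2,19,17,23]

/-- The fixed points among the 275, labelled by bisections of eight letters. -/
def fixedPts : List (List Int) := [
  [0,0,0,0,0,0,0,0,0,0,0,0,0,0,0,0,4,0,0,0,0,0,0,4],
  [2,0,0,0,0,0,2,0,0,0,0,2,2,2,0,0,0,0,0,2,0,0,2,2],
  [2,2,0,0,2,2,0,2,2,0,0,0,0,0,0,2,0,0,0,0,0,0,0,2],
  [1,-1,1,1,1,1,1,-1,-1,1,1,-1,1,-1,1,1,-1,1,1,-1,1,1,1,3],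
  [1,1,1,1,-1,-1,-1,1,1,1,1,1,-1,1,1,-1,-1,1,1,1,1,1,-1,3],
  [2,2,2,0,0,0,0,0,0,2,2,0,0,0,0,2,0,0,0,0,2,0,0,2],
  [2,0,0,2,0,0,2,0,0,0,0,2,0,0,0,0,0,2,2,0,0,2,0,2],
  [1,1,1,1,1,1,-1,1,1,-1,1,1,1,1,1,-1,-1,-1,-1,1,-1,1,1,3],
  [1,-1,-1,-1,1,1,1,1,1,1,-1,-1,1,1,1,1,-1,1,1,1,1,-1,1,3],
  [0,0,0,0,0,0,0,0,0,0,0,0,0,0,4,0,0,0,0,0,0,0,0,4],
  [1,-1,-1,1,1,1,-1,1,1,1,-1,1,-1,1,-1,1,1,1,1,1,1,1,-1,3],
  [1,1,1,1,1,1,1,1,1,-1,1,-1,1,-1,-1,-1,1,1,1,-1,-1,1,1,3],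
  [1,1,1,-1,-1,-1,1,1,1,1,1,-1,1,1,-1,-1,1,1,1,1,1,-1,1,3],
  [1,-1,1,1,1,1,-1,-1,-1,1,1,1,1,1,-1,1,1,-1,-1,1,1,1,1,3],
  [2,2,0,0,0,0,2,0,0,0,0,2,0,0,2,2,2,0,0,0,0,0,0,2],
  [1,-1,1,1,1,1,1,1,1,-1,1,-1,-1,1,1,1,-1,1,1,1,-1,1,-1,3],
  [1,1,1,-1,1,1,-1,-1,-1,1,1,1,1,1,1,-1,-1,1,1,1,1,-1,1,3],
  [2,0,0,0,0,0,2,2,2,2,0,2,0,0,0,0,0,0,0,0,2,0,0,2],
  [2,2,0,2,0,0,0,0,0,0,0,0,2,0,0,2,0,0,0,0,0,2,2,2],
  [1,-1,1,1,-1,-1,-1,1,1,1,1,1,1,-1,-1,1,1,1,1,-1,1,1,1,3],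
  [0,4,0,0,0,0,0,0,0,0,0,0,0,0,0,0,0,0,0,0,0,0,0,4],
  [2,0,0,0,2,2,0,0,0,2,0,0,0,0,2,0,2,0,0,0,2,0,0,2],
  [2,0,0,2,0,0,0,0,0,0,0,0,0,2,2,0,2,0,0,2,0,2,0,2],
  [0,0,0,0,0,0,4,0,0,0,0,0,0,0,0,0,0,0,0,0,0,0,0,4],
  [1,-1,1,-1,1,1,-1,1,1,-1,1,1,1,1,-1,1,1,1,1,1,-1,-1,1,3],
  [1,1,-1,1,1,1,1,1,1,1,-1,-1,1,1,-1,-1,1,-1,-1,1,1,1,1,3],
  [2,0,0,0,0,0,0,0,0,0,0,0,2,0,2,0,2,2,2,0,0,0,2,2],
  [0,0,0,0,0,0,0,0,0,0,0,4,0,0,0,0,0,0,0,0,0,0,0,4],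
  [0,0,0,0,0,0,0,0,0,0,0,0,0,0,0,4,0,0,0,0,0,0,0,4],
  [2,0,2,0,0,0,0,2,2,0,2,0,0,0,2,0,2,0,0,0,0,0,0,2],
  [1,1,1,1,1,1,1,-1,-1,1,1,-1,-1,1,-1,-1,1,1,1,1,1,1,-1,3],
  [2,0,2,0,2,2,2,0,0,0,2,2,0,0,0,0,0,0,0,0,0,0,0,2],
  [2,2,0,0,0,0,0,0,0,0,0,0,0,2,0,2,0,2,2,2,0,0,0,2],
  [1,-1,1,1,-1,-1,1,1,1,1,1,-1,1,1,1,1,-1,-1,-1,1,1,1,1,3],
  [1,1,-1,1,1,1,-1,1,1,1,-1,1,1,-1,1,-1,-1,1,1,-1,1,1,1,3]]

/-- The bisections, by the side of each letter. -/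
def bisections : List (List Bool) := [
  [true,true,true,true,false,false,false,false],
  [true,true,true,false,true,false,false,false],
  [true,true,true,false,false,true,false,false],
  [true,true,true,false,false,false,true,false],
  [true,true,true,false,false,false,false,true],
  [true,true,false,true,true,false,false,false],
  [true,true,false,true,false,true,false,false],
  [true,true,false,true,false,false,true,false],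
  [true,true,false,true,false,false,false,true],
  [true,true,false,false,true,true,false,false],
  [true,true,false,false,true,false,true,false],
  [true,true,false,false,true,false,false,true],
  [true,true,false,false,false,true,true,false],
  [true,true,false,false,false,true,false,true],
  [true,true,false,false,false,false,true,true],
  [true,false,true,true,true,false,false,false],
  [true,false,true,true,false,true,false,false],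
  [true,false,true,true,false,false,true,false],
  [true,false,true,true,false,false,false,true],
  [true,false,true,false,true,true,false,false],
  [true,false,true,false,true,false,true,false],
  [true,false,true,false,true,false,false,true],
  [true,false,true,false,false,true,true,false],
  [true,false,true,false,false,true,false,true],
  [true,false,true,false,false,false,true,true],
  [true,false,false,true,true,true,false,false],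
  [true,false,false,true,true,false,true,false],
  [true,false,false,true,true,false,false,true],
  [true,false,false,true,false,true,true,false],
  [true,false,false,true,false,true,false,true],
  [true,false,false,true,false,false,true,true],
  [true,false,false,false,true,true,true,false],
  [true,false,false,false,true,true,false,true],
  [true,false,false,false,true,false,true,true],
  [true,false,false,false,false,true,true,true]]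

/-- The base. -/
def baseIdx : List (Fin 35) := [0,9,1,20,2,3]

/-- The stabiliser chain. -/
def chain : List (List (List (Fin 8) × List (Fin 35))) := [
  [([0,1,2,3,4,5,6,7], [0,1,2,3,4,5,6,7,8,9,10,11,12,13,14,15,16,17,18,19,20,21,22,23,24,25,26,27,28,29,30,31,32,33,34]),
   ([0,1,2,4,3,5,6,7], [1,0,2,3,4,5,9,10,11,6,7,8,12,13,14,15,19,20,21,16,17,18,22,23,24,25,26,27,31,32,33,28,29,30,34]),
   ([0,1,2,4,5,3,6,7], [1,2,0,3,4,9,5,10,11,6,12,13,7,8,14,19,15,20,21,16,22,23,17,18,24,25,31,32,26,27,33,28,29,34,30]),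
   ([0,1,2,4,5,6,3,7], [1,2,3,0,4,9,10,5,11,12,6,13,7,14,8,19,20,15,21,22,16,23,17,24,18,31,25,32,26,33,27,28,34,29,30]),
   ([0,1,2,4,5,6,7,3], [1,2,3,4,0,9,10,11,5,12,13,6,14,7,8,19,20,21,15,22,23,16,24,17,18,31,32,25,33,26,27,34,28,29,30]),
   ([0,1,4,2,3,5,6,7], [1,5,9,10,11,0,2,3,4,6,7,8,12,13,14,15,19,20,21,25,26,27,31,32,33,16,17,18,22,23,24,28,29,30,34]),
   ([0,1,4,2,5,3,6,7], [1,9,5,10,11,2,0,3,4,6,12,13,7,8,14,19,15,20,21,25,31,32,26,27,33,16,22,23,17,18,24,28,29,34,30]),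
   ([0,1,4,2,5,6,3,7], [1,9,10,5,11,2,3,0,4,12,6,13,7,14,8,19,20,15,21,31,25,32,26,33,27,22,16,23,17,24,18,28,34,29,30]),
   ([0,1,4,2,5,6,7,3], [1,9,10,11,5,2,3,4,0,12,13,6,14,7,8,19,20,21,15,31,32,25,33,26,27,22,23,16,24,17,18,34,28,29,30]),
   ([0,1,4,5,2,3,6,7], [9,1,5,10,11,2,6,12,13,0,3,4,7,8,14,19,25,31,32,15,20,21,26,27,33,16,22,23,28,29,34,17,18,24,30]),
   ([0,1,4,5,2,6,3,7], [9,1,10,5,11,2,12,6,13,3,0,4,7,14,8,19,31,25,32,20,15,21,26,33,27,22,16,23,28,34,29,17,24,18,30]),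
   ([0,1,4,5,2,6,7,3], [9,1,10,11,5,2,12,13,6,3,4,0,14,7,8,19,31,32,25,20,21,15,33,26,27,22,23,16,34,28,29,24,17,18,30]),
   ([0,1,4,5,6,2,3,7], [9,10,1,5,11,12,2,6,13,3,7,14,0,4,8,31,19,25,32,20,26,33,15,21,27,22,28,34,16,23,29,17,24,30,18]),
   ([0,1,4,5,6,2,7,3], [9,10,1,11,5,12,2,13,6,3,14,7,4,0,8,31,19,32,25,20,33,26,21,15,27,22,34,28,23,16,29,24,17,30,18]),
   ([0,1,4,5,6,7,2,3], [9,10,11,1,5,12,13,2,6,14,3,7,4,8,0,31,32,19,25,33,20,26,21,27,15,34,22,28,23,29,16,24,30,17,18]),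
   ([0,4,1,2,3,5,6,7], [1,5,9,10,11,15,19,20,21,25,26,27,31,32,33,0,2,3,4,6,7,8,12,13,14,16,17,18,22,23,24,28,29,30,34]),
   ([0,4,1,2,5,3,6,7], [1,9,5,10,11,19,15,20,21,25,31,32,26,27,33,2,0,3,4,6,12,13,7,8,14,16,22,23,17,18,24,28,29,34,30]),
   ([0,4,1,2,5,6,3,7], [1,9,10,5,11,19,20,15,21,31,25,32,26,33,27,2,3,0,4,12,6,13,7,14,8,22,16,23,17,24,18,28,34,29,30]),
   ([0,4,1,2,5,6,7,3], [1,9,10,11,5,19,20,21,15,31,32,25,33,26,27,2,3,4,0,12,13,6,14,7,8,22,23,16,24,17,18,34,28,29,30]),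
   ([0,4,1,5,2,3,6,7], [9,1,5,10,11,19,25,31,32,15,20,21,26,27,33,2,6,12,13,0,3,4,7,8,14,16,22,23,28,29,34,17,18,24,30]),
   ([0,4,1,5,2,6,3,7], [9,1,10,5,11,19,31,25,32,20,15,21,26,33,27,2,12,6,13,3,0,4,7,14,8,22,16,23,28,34,29,17,24,18,30]),
   ([0,4,1,5,2,6,7,3], [9,1,10,11,5,19,31,32,25,20,21,15,33,26,27,2,12,13,6,3,4,0,14,7,8,22,23,16,34,28,29,24,17,18,30]),
   ([0,4,1,5,6,2,3,7], [9,10,1,5,11,31,19,25,32,20,26,33,15,21,27,12,2,6,13,3,7,14,0,4,8,22,28,34,16,23,29,17,24,30,18]),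
   ([0,4,1,5,6,2,7,3], [9,10,1,11,5,31,19,32,25,20,33,26,21,15,27,12,2,13,6,3,14,7,4,0,8,22,34,28,23,16,29,24,17,30,18]),
   ([0,4,1,5,6,7,2,3], [9,10,11,1,5,31,32,19,25,33,20,26,21,27,15,12,13,2,6,14,3,7,4,8,0,34,22,28,23,29,16,24,30,17,18]),
   ([0,4,5,1,2,3,6,7], [9,19,25,31,32,1,5,10,11,15,20,21,26,27,33,2,6,12,13,16,22,23,28,29,34,0,3,4,7,8,14,17,18,24,30]),
   ([0,4,5,1,2,6,3,7], [9,19,31,25,32,1,10,5,11,20,15,21,26,33,27,2,12,6,13,22,16,23,28,34,29,3,0,4,7,14,8,17,24,18,30]),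
   ([0,4,5,1,2,6,7,3], [9,19,31,32,25,1,10,11,5,20,21,15,33,26,27,2,12,13,6,22,23,16,34,28,29,3,4,0,14,7,8,24,17,18,30]),
   ([0,4,5,1,6,2,3,7], [9,31,19,25,32,10,1,5,11,20,26,33,15,21,27,12,2,6,13,22,28,34,16,23,29,3,7,14,0,4,8,17,24,30,18]),
   ([0,4,5,1,6,2,7,3], [9,31,19,32,25,10,1,11,5,20,33,26,21,15,27,12,2,13,6,22,34,28,23,16,29,3,14,7,4,0,8,24,17,30,18]),
   ([0,4,5,1,6,7,2,3], [9,31,32,19,25,10,11,1,5,33,20,26,21,27,15,12,13,2,6,34,22,28,23,29,16,14,3,7,4,8,0,24,30,17,18]),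
   ([0,4,5,6,1,2,3,7], [31,9,19,25,32,10,20,26,33,1,5,11,15,21,27,12,22,28,34,2,6,13,16,23,29,3,7,14,17,24,30,0,4,8,18]),
   ([0,4,5,6,1,2,7,3], [31,9,19,32,25,10,20,33,26,1,11,5,21,15,27,12,22,34,28,2,13,6,23,16,29,3,14,7,24,17,30,4,0,8,18]),
   ([0,4,5,6,1,7,2,3], [31,9,32,19,25,10,33,20,26,11,1,5,21,27,15,12,34,22,28,13,2,6,23,29,16,14,3,7,24,30,17,4,8,0,18]),
   ([0,4,5,6,7,1,2,3], [31,32,9,19,25,33,10,20,26,11,21,27,1,5,15,34,12,22,28,13,23,29,2,6,16,14,24,30,3,7,17,4,8,18,0])],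
  [([0,1,2,3,4,5,6,7], [0,1,2,3,4,5,6,7,8,9,10,11,12,13,14,15,16,17,18,19,20,21,22,23,24,25,26,27,28,29,30,31,32,33,34]),
   ([0,1,2,3,4,6,5,7], [0,1,3,2,4,5,7,6,8,10,9,11,12,14,13,15,17,16,18,20,19,21,22,24,23,26,25,27,28,30,29,31,33,32,34]),
   ([0,1,2,3,4,6,7,5], [0,1,3,4,2,5,7,8,6,10,11,9,14,12,13,15,17,18,16,20,21,19,24,22,23,26,27,25,30,28,29,33,31,32,34]),
   ([0,1,2,3,6,4,5,7], [0,3,1,2,4,7,5,6,8,10,12,14,9,11,13,17,15,16,18,20,22,24,19,21,23,26,28,30,25,27,29,31,33,34,32]),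
   ([0,1,2,3,6,4,7,5], [0,3,1,4,2,7,5,8,6,10,14,12,11,9,13,17,15,18,16,20,24,22,21,19,23,26,30,28,27,25,29,33,31,34,32]),
   ([0,1,2,3,6,7,4,5], [0,3,4,1,2,7,8,5,6,14,10,12,11,13,9,17,18,15,16,24,20,22,21,23,19,30,26,28,27,29,25,33,34,31,32]),
   ([0,2,1,3,4,5,6,7], [0,1,2,3,4,15,16,17,18,19,20,21,22,23,24,5,6,7,8,9,10,11,12,13,14,25,26,27,28,29,30,31,32,33,34]),
   ([0,2,1,3,4,6,5,7], [0,1,3,2,4,15,17,16,18,20,19,21,22,24,23,5,7,6,8,10,9,11,12,14,13,26,25,27,28,30,29,31,33,32,34]),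
   ([0,2,1,3,4,6,7,5], [0,1,3,4,2,15,17,18,16,20,21,19,24,22,23,5,7,8,6,10,11,9,14,12,13,26,27,25,30,28,29,33,31,32,34]),
   ([0,2,1,3,6,4,5,7], [0,3,1,2,4,17,15,16,18,20,22,24,19,21,23,7,5,6,8,10,12,14,9,11,13,26,28,30,25,27,29,31,33,34,32]),
   ([0,2,1,3,6,4,7,5], [0,3,1,4,2,17,15,18,16,20,24,22,21,19,23,7,5,8,6,10,14,12,11,9,13,26,30,28,27,25,29,33,31,34,32]),
   ([0,2,1,3,6,7,4,5], [0,3,4,1,2,17,18,15,16,24,20,22,21,23,19,7,8,5,6,14,10,12,11,13,9,30,26,28,27,29,25,33,34,31,32]),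
   ([0,2,3,1,4,5,6,7], [0,15,16,17,18,1,2,3,4,19,20,21,22,23,24,5,6,7,8,25,26,27,28,29,30,9,10,11,12,13,14,31,32,33,34]),
   ([0,2,3,1,4,6,5,7], [0,15,17,16,18,1,3,2,4,20,19,21,22,24,23,5,7,6,8,26,25,27,28,30,29,10,9,11,12,14,13,31,33,32,34]),
   ([0,2,3,1,4,6,7,5], [0,15,17,18,16,1,3,4,2,20,21,19,24,22,23,5,7,8,6,26,27,25,30,28,29,10,11,9,14,12,13,33,31,32,34]),
   ([0,2,3,1,6,4,5,7], [0,17,15,16,18,3,1,2,4,20,22,24,19,21,23,7,5,6,8,26,28,30,25,27,29,10,12,14,9,11,13,31,33,34,32]),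
   ([0,2,3,1,6,4,7,5], [0,17,15,18,16,3,1,4,2,20,24,22,21,19,23,7,5,8,6,26,30,28,27,25,29,10,14,12,11,9,13,33,31,34,32]),
   ([0,2,3,1,6,7,4,5], [0,17,18,15,16,3,4,1,2,24,20,22,21,23,19,7,8,5,6,30,26,28,27,29,25,14,10,12,11,13,9,33,34,31,32])],
  [([0,1,2,3,4,5,6,7], [0,1,2,3,4,5,6,7,8,9,10,11,12,13,14,15,16,17,18,19,20,21,22,23,24,25,26,27,28,29,30,31,32,33,34]),
   ([0,1,2,3,5,4,6,7], [0,2,1,3,4,6,5,7,8,9,12,13,10,11,14,16,15,17,18,19,22,23,20,21,24,25,28,29,26,27,30,31,32,34,33]),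
   ([0,1,3,2,4,5,6,7], [0,5,6,7,8,1,2,3,4,9,10,11,12,13,14,15,16,17,18,25,26,27,28,29,30,19,20,21,22,23,24,31,32,33,34]),
   ([0,1,3,2,5,4,6,7], [0,6,5,7,8,2,1,3,4,9,12,13,10,11,14,16,15,17,18,25,28,29,26,27,30,19,22,23,20,21,24,31,32,34,33]),
   ([2,3,0,1,6,7,4,5], [0,17,18,15,16,32,31,34,33,9,13,11,12,10,14,3,4,1,2,24,20,22,21,23,19,25,29,27,28,26,30,6,5,8,7]),
   ([2,3,0,1,6,7,5,4], [0,17,18,16,15,32,31,33,34,9,11,13,10,12,14,3,4,2,1,24,22,20,23,21,19,25,27,29,26,28,30,5,6,8,7]),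
   ([3,2,0,1,6,7,5,4], [0,17,18,16,15,32,31,33,34,9,11,13,10,12,14,7,8,6,5,30,28,26,29,27,25,19,21,23,20,22,24,1,2,4,3]),
   ([3,2,0,1,6,7,4,5], [0,17,18,15,16,32,31,34,33,9,13,11,12,10,14,7,8,5,6,30,26,28,27,29,25,19,23,21,22,20,24,2,1,4,3])],
  [([0,1,2,3,4,5,6,7], [0,1,2,3,4,5,6,7,8,9,10,11,12,13,14,15,16,17,18,19,20,21,22,23,24,25,26,27,28,29,30,31,32,33,34]),
   ([0,1,2,3,4,5,7,6], [0,1,2,4,3,5,6,8,7,9,11,10,13,12,14,15,16,18,17,19,21,20,23,22,24,25,27,26,29,28,30,32,31,33,34]),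
   ([1,0,2,3,4,5,7,6], [0,1,2,4,3,5,6,8,7,9,11,10,13,12,14,34,33,31,32,30,28,29,26,27,25,24,22,23,20,21,19,17,18,16,15]),
   ([1,0,2,3,4,5,6,7], [0,1,2,3,4,5,6,7,8,9,10,11,12,13,14,34,33,32,31,30,29,28,27,26,25,24,23,22,21,20,19,18,17,16,15])],
  [([0,1,2,3,4,5,6,7], [0,1,2,3,4,5,6,7,8,9,10,11,12,13,14,15,16,17,18,19,20,21,22,23,24,25,26,27,28,29,30,31,32,33,34]),
   ([7,6,5,4,3,2,1,0], [0,1,5,15,34,2,6,16,33,9,19,30,25,24,14,3,7,17,32,10,20,29,26,23,13,12,22,27,28,21,11,31,18,8,4])],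
  [([0,1,2,3,4,5,6,7], [0,1,2,3,4,5,6,7,8,9,10,11,12,13,14,15,16,17,18,19,20,21,22,23,24,25,26,27,28,29,30,31,32,33,34])]]

/-- The multiple of the third vector. -/
def combDen : Int := 3

/-- Its coordinates. -/
def combCoef : List Int := [-1,-1,-4,-1,-4,0,-1,1,0,1,2,0,0,0,0,3,1,2,0,2,4,0,0,0,0,0,0,0,0,0,0,0,0,0,0]

/-- The coefficient of the first vector. -/
def combU : Int := -2

/-- The coefficient of the second vector. -/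
def combV : Int := 0

end Cfsg.Agent.McLCent
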