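import Cfsg.Agent.McLCent.Order
import Cfsg.Agent.McLCent.Bisections
import Mathlib.GroupTheory.SpecificGroups.Alternating

/-!
# The centraliser of an involution of the McLaughlin group is 2·A₈

The 35 fixed points among the 275 carry the table of the 35 bisections of eight letters, and only
the involution itself fixes all of them.
-/

set_option autoImplicit false
set_option maxRecDepth 100000
set_option maxHeartbeats 1000000
set_option linter.style.haveILetI false

namespace Cfsg.Agent.McLCent

open Cfsg CfsgLib CfsgLib.Golay CfsgLib.Golay.SylowCert MulAction McLSimple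
open CfsgLib.McLFusion (M iM PM j iM_injective j_injective pc_mem eMcL)

attribute [local irreducible] CfsgLib.Leech.shortVecs CfsgLib.Leech.halfTable CfsgLib.Leech.quarterTable

/-- The coordinate list of a labelled fixed point. -/
def ptL (k : Fin 35) : List ℤ := fixedPts.getD k.val []

theorem ptL_ok : ∀ k : Fin 35, testX (ptL k) = true ∧ act m22Z (ptL k) = ptL k := by decide +kernel

theorem ptL_dot : ∀ k l : Fin 35, dotL (ptL k) (ptL l) = bdot k l := by decide +kernel

theorem ptL_all : ∀ l ∈ pts275, act m22Z l = l → ∃ k : Fin 35, ptL k = l := by decide +kernel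

theorem exists_fixPt (k : Fin 35) : ∃ x ∈ xSet, toL (x : GolayPt → ℤ) = ptL k :=
  exists_pt_of_test (ptL_ok k).1

/-- A labelled fixed point. -/
noncomputable def fixPt (k : Fin 35) : leechLattice := (exists_fixPt k).choose

theorem fixPt_mem (k : Fin 35) : fixPt k ∈ xSet := (exists_fixPt k).choose_spec.1

theorem toL_fixPt (k : Fin 35) : toL (fixPt k : GolayPt → ℤ) = ptL k := (exists_fixPt k).choose_spec.2

theorem fixPt_fixed (k : Fin 35) : (tt : Co0) • fixPt k = fixPt k :=
  (fix_iff zeta _).2 (by rw [lst_zeta, toL_fixPt]; exact (ptL_ok k).2)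

theorem fixPt_dot (k l : Fin 35) :
    dotInt (fixPt k : GolayPt → ℤ) (fixPt l : GolayPt → ℤ) = bdot k l := by
  rw [dot_toL, toL_fixPt, toL_fixPt, ptL_dot]

theorem fixPt_injective : Function.Injective fixPt := fun k l h => by
  by_contra hne
  have h1 := fixPt_dot k l
  rw [h, fixPt_dot l l] at h1
  simp only [bdot, if_pos, if_neg hne] at h1
  split_ifs at h1 <;> omega

theorem fixPt_surj {x : leechLattice} (hx : x ∈ xSet) (hfix : (tt : Co0) • x = x) : ∃ k, fixPt k = x := by
  obtain ⟨k, hk⟩ := ptL_all _ (mem_pts hx) (by rw [← lst_zeta]; exact (fix_iff zeta x).1 hfix)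
  exact ⟨k, toL_coe_injective ((toL_fixPt k).trans hk)⟩

theorem exists_label (g : cent) (k : Fin 35) : ∃ l, fixPt l = ((g : mclStab) : Co0) • fixPt k := by
  refine fixPt_surj (inX_smul (g : mclStab).2 (fixPt_mem k)) ?_
  have hg : (tt : Co0) * ((g : mclStab) : Co0) = ((g : mclStab) : Co0) * (tt : Co0) :=
    (congrArg Subtype.val (Subgroup.mem_centralizer_singleton_iff.1 g.2)).symm
  rw [← mul_smul, hg, mul_smul, fixPt_fixed]

/-- The image of a label. -/
noncomputable def label (g : cent) (k : Fin 35) : Fin 35 := (exists_label g k).choose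

theorem fixPt_label (g : cent) (k : Fin 35) : fixPt (label g k) = ((g : mclStab) : Co0) • fixPt k :=
  (exists_label g k).choose_spec

theorem label_mul (g h : cent) (k : Fin 35) : label (g * h) k = label g (label h k) :=
  fixPt_injective (by rw [fixPt_label, fixPt_label, fixPt_label, ← mul_smul]; rfl)

theorem label_one (k : Fin 35) : label 1 k = k :=
  fixPt_injective (by rw [fixPt_label]; exact one_smul Co0 _)

/-- The action on the labels. -/
noncomputable def labelPerm : cent →* Equiv.Perm (Fin 35) where
  toFun g :=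
    { toFun := label g
      invFun := label g⁻¹
      left_inv := fun k => by rw [← label_mul, inv_mul_cancel, label_one]
      right_inv := fun k => by rw [← label_mul, mul_inv_cancel, label_one] }
  map_one' := Equiv.ext label_one
  map_mul' g h := Equiv.ext (label_mul g h)

theorem exists_letters (g : cent) : ∃ σ, Induced σ (labelPerm g) :=
  induced_of_bdot fun k l => by
    show bdot (label g k) (label g l) = bdot k l
    rw [← fixPt_dot, ← fixPt_dot, fixPt_label, fixPt_label, Leech.dot_smul']

/-- The action on the eight letters. -/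
noncomputable def letterHom : cent →* Equiv.Perm (Fin 8) where
  toFun g := (exists_letters g).choose
  map_one' := letters_eq_one (by simpa using (exists_letters 1).choose_spec)
  map_mul' g h := induced_unique (exists_letters (g * h)).choose_spec (by
    rw [map_mul]; exact induced_mul (exists_letters g).choose_spec (exists_letters h).choose_spec)

theorem comb_check : combDen ≠ 0 ∧ ∀ p : GolayPt, combDen * Spor.vecU' p =
    (∑ k : Fin 35, combCoef.getD k.val 0 * (ptL k).getD (idx p) 0) + combU * Spor.vecU p + combV * Spor.vecV p := by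
  decide +kernel

theorem getD_fixPt (k : Fin 35) (p : GolayPt) : (fixPt k : GolayPt → ℤ) p = (ptL k).getD (idx p) 0 := by
  rw [← toL_fixPt, getD_toL _ (idx_lt p), pt_idx]

theorem fix_third {g : mclStab} (h : ∀ k, (g : Co0) • fixPt k = fixPt k) :
    (g : Co0) • Spor.leechU' = Spor.leechU' := by
  obtain ⟨hden, hcomb⟩ := comb_check
  have heq : combDen • Spor.leechU' = (∑ k : Fin 35, combCoef.getD k.val 0 • fixPt k) +
      combU • Spor.leechU + combV • Spor.leechV := by
    refine Subtype.ext (funext fun p => ?_)
    simp only [AddSubgroup.coe_add, AddSubgroup.coe_zsmul, AddSubmonoidClass.coe_finset_sum, Pi.add_apply,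
      Pi.smul_apply, Finset.sum_apply, smul_eq_mul, getD_fixPt]
    exact hcomb p
  let φ : leechLattice →+ leechLattice := AddMonoidHom.mk' (fun x => (g : Co0) • x) fun x y => Leech.smul_add' _ x y
  have h1 : φ (combDen • Spor.leechU') = combDen • Spor.leechU' := by
    rw [heq, map_add, map_add, map_sum]
    simp only [map_zsmul]
    rw [show φ Spor.leechU = Spor.leechU from g.2.2, show φ Spor.leechV = Spor.leechV from g.2.1]
    exact congrArg (fun s => s + combU • Spor.leechU + combV • Spor.leechV)
      (Finset.sum_congr rfl fun k _ => by rw [show φ (fixPt k) = fixPt k from h k])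
  rw [map_zsmul] at h1
  refine Subtype.ext (funext fun p => mul_left_cancel₀ hden ?_)
  have := congrFun (congrArg Subtype.val h1) p
  simpa [φ, hden] using this

theorem columns_separate : ∀ p q : GolayPt,
    (∀ k : Fin 35, (ptL k).getD (idx p) 0 = (ptL k).getD (idx q) 0) →
    Spor.vecU p = Spor.vecU q → Spor.vecV p = Spor.vecV q → q = p ∨ idx q = m22Z.getD (idx p) 0 := by
  decide +kernel

/-- The number of moved points. -/
noncomputable def moved (σ : M) : Finset GolayPt := Finset.univ.filter fun p => iM σ p ≠ p

theorem card_moved_conj (g σ : M) : (moved (g * σ * g⁻¹)).card = (moved σ).card := by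
  refine Finset.card_equiv (iM g).symm fun p => ?_
  simp only [moved, Finset.mem_filter, Finset.mem_univ, true_and, map_mul, map_inv, Equiv.Perm.mul_apply,
    Equiv.Perm.inv_def, ne_eq]
  rw [← (iM g).symm.injective.eq_iff, Equiv.symm_apply_apply]

theorem kernel_zeta {σ : M} (h : ∀ p, iM σ p = p ∨ iM σ p = iM zeta p) : σ = 1 ∨ σ = zeta := by
  rcases eq_or_ne σ 1 with h1 | h1
  · exact Or.inl h1
  right
  have hzz : ∀ p, iM zeta (iM zeta p) = p := fun p => by
    rw [← Equiv.Perm.mul_apply, ← map_mul, ← pow_two, show zeta ^ 2 = 1 from orderOf_zeta ▸ pow_orderOf_eq_one zeta,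
      map_one, Equiv.Perm.one_apply]
  have hσσ : σ * σ = 1 := by
    refine iM_injective (Equiv.ext fun p => ?_)
    rw [map_mul, map_one, Equiv.Perm.mul_apply, Equiv.Perm.one_apply]
    rcases h p with e | e
    · rw [e, e]
    · rcases h (iM σ p) with e2 | e2
      · rw [e2]; exact (iM σ).injective e2
      · rw [e2, e, hzz]
  have hord : orderOf σ = 2 := orderOf_eq_prime (hp := ⟨Nat.prime_two⟩) (by rw [pow_two, hσσ]) h1
  obtain ⟨g, hg⟩ := conj_zeta hord
  have hsub : moved σ ⊆ moved zeta := fun p hp => by
    simp only [moved, Finset.mem_filter, Finset.mem_univ, true_and] at hp ⊢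
    intro hz
    rcases h p with e | e
    · exact hp e
    · exact hp (e.trans hz)
  have heq := Finset.eq_of_subset_of_card_le hsub (by rw [← card_moved_conj g σ, hg])
  refine iM_injective (Equiv.ext fun p => ?_)
  rcases h p with e | e
  · have : p ∉ moved zeta := by rw [← heq]; simp [moved, e]
    simp only [moved, Finset.mem_filter, Finset.mem_univ, true_and, not_not] at this
    rw [e, this]
  · exact e

/-- The involution as an element of its centraliser. -/
noncomputable def ttC : cent := ⟨tt, Subgroup.mem_centralizer_singleton_iff.2 rfl⟩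

theorem orderOf_ttC : orderOf ttC = 2 := by rw [← Subgroup.orderOf_coe]; exact orderOf_tt

theorem ker_letterHom : letterHom.ker = Subgroup.zpowers ttC := by
  refine le_antisymm (fun g hg => ?_) ?_
  · rw [MonoidHom.mem_ker] at hg
    have h0 := (exists_letters g).choose_spec
    rw [show (exists_letters g).choose = 1 from hg] at h0
    have hfix : ∀ k, ((g : mclStab) : Co0) • fixPt k = fixPt k := fun k => by
      rw [← fixPt_label]
      exact congrArg fixPt (DFunLike.congr_fun (bisection_eq_one h0) k)
    obtain ⟨σ, hσ⟩ := exists_j (fix_third hfix)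
    have hcol : ∀ p, iM σ p = p ∨ iM σ p = iM zeta p := fun p => by
      have key : ∀ x : leechLattice, ((g : mclStab) : Co0) • x = x →
          (x : GolayPt → ℤ) (iM σ p) = (x : GolayPt → ℤ) p := fun x hx => by
        rw [← hσ, fix_iff, act_toL, toL_injective.eq_iff] at hx
        exact congrFun hx p
      refine (columns_separate p (iM σ p) (fun k => ?_) ?_ ?_).imp id fun h => ?_
      · rw [← getD_fixPt, ← getD_fixPt, key _ (hfix k)]
      · exact (key Spor.leechU (g : mclStab).2.2).symm
      · exact (key Spor.leechV (g : mclStab).2.1).symm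
      · refine idx_injective ?_
        rw [h, ← lst_zeta, lst, toList_getD_idx]
    rcases kernel_zeta hcol with rfl | rfl
    · rw [map_one] at hσ
      rw [show g = 1 from Subtype.ext hσ.symm]
      exact one_mem _
    · rw [show g = ttC from Subtype.ext hσ.symm]
      exact Subgroup.mem_zpowers _
  · rw [Subgroup.zpowers_le, MonoidHom.mem_ker]
    have h1 : labelPerm ttC = 1 := Equiv.ext fun k => fixPt_injective
      ((fixPt_label ttC k).trans (fixPt_fixed k))
    exact induced_unique (exists_letters ttC).choose_spec (by rw [h1]; exact induced_one)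

theorem ttC_central (g : cent) : g * ttC = ttC * g :=
  Subtype.ext (Subgroup.mem_centralizer_singleton_iff.1 g.2)

theorem root_check : In22 rootElt ∧ compL rootElt rootElt = m22Z := by decide +kernel

/-- A double cover of the alternating group from a map to the symmetric group. -/
theorem double_cover {H : Type*} [Group H] (φ : H →* Equiv.Perm (Fin 8)) {z r : H}
    (hcard : Nat.card H = 40320) (hker : φ.ker = Subgroup.zpowers z) (hz : orderOf z = 2)
    (hcent : ∀ g : H, g * z = z * g) (hr : r * r = z) :
    IsNonsplitDoubleCover H (alternatingGroup (Fin 8)) := by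
  have hzc : z ∈ Subgroup.center H := Subgroup.mem_center_iff.2 hcent
  have hkc : Nat.card φ.ker = 2 := by rw [hker, Nat.card_zpowers, hz]
  have hrange : Nat.card φ.range = 20160 := by
    have h := φ.ker.card_mul_index
    rw [Subgroup.index_ker, hkc, hcard] at h
    omega
  have hP8 : Nat.card (Equiv.Perm (Fin 8)) = 40320 := by
    rw [Nat.card_eq_fintype_card, Fintype.card_perm, Fintype.card_fin]; rfl
  have hidx : φ.range.index = 2 := by
    have h := φ.range.card_mul_index
    rw [hrange, hP8] at h
    omega
  have hA : φ.range = alternatingGroup (Fin 8) := Equiv.Perm.eq_alternatingGroup_of_index_eq_two hidx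
  have hcA : Subgroup.center (alternatingGroup (Fin 8)) = ⊥ :=
    alternatingGroup.center_eq_bot (by simp)
  have hctr : Subgroup.center H = φ.ker := by
    refine le_antisymm (fun g hg => ?_) (by rw [hker, Subgroup.zpowers_le]; exact hzc)
    rw [MonoidHom.mem_ker]
    have hmem : φ g ∈ alternatingGroup (Fin 8) := hA ▸ ⟨g, rfl⟩
    have : (⟨φ g, hmem⟩ : alternatingGroup (Fin 8)) ∈ Subgroup.center (alternatingGroup (Fin 8)) := by
      rw [Subgroup.mem_center_iff]
      rintro ⟨u, hu⟩
      rw [← hA] at hu
      obtain ⟨v, rfl⟩ := hu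
      refine Subtype.ext ?_
      show φ v * φ g = φ g * φ v
      rw [← map_mul, ← map_mul, Subgroup.mem_center_iff.1 hg v]
    rw [hcA, Subgroup.mem_bot] at this
    exact congrArg Subtype.val this
  refine ⟨hctr ▸ hkc, ⟨(QuotientGroup.quotientMulEquivOfEq hctr).trans
    ((QuotientGroup.quotientKerEquivRange φ).trans (MulEquiv.subgroupCongr hA))⟩, fun L hL => ?_⟩
  obtain ⟨⟨c, l⟩, hcl, -⟩ := Subgroup.isComplement_iff_existsUnique.1 hL r
  have hc2 : (c : H) * c = 1 := by
    have h1 : (c : H) ∈ Subgroup.zpowers z := hker ▸ hctr ▸ c.2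
    have h2 := pow_card_eq_one' (x := (⟨c, h1⟩ : Subgroup.zpowers z))
    rw [Nat.card_zpowers, hz] at h2
    simpa [pow_two] using congrArg Subtype.val h2
  have hzL : z ∈ L := by
    have hcm := Subgroup.mem_center_iff.1 c.2 (l : H)
    rw [← hr, ← show (c : H) * l = r from hcl,
      show (c : H) * l * ((c : H) * l) = (c : H) * (l * c) * l by group, hcm,
      show (c : H) * (c * l) * l = (c : H) * c * (l * l) by group, hc2, one_mul]
    exact L.mul_mem l.2 l.2
  have : z = 1 := by
    have hbot := hL.disjoint
    rw [disjoint_iff] at hbot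
    exact (Subgroup.mem_bot).1 (hbot ▸ ⟨hzc, hzL⟩)
  rw [this, orderOf_one] at hz
  exact absurd hz (by norm_num)

theorem main : (∀ x y : Spor.McL, orderOf x = 2 → orderOf y = 2 → IsConj x y) ∧
    ∃ t : Spor.McL, orderOf t = 2 ∧
      IsNonsplitDoubleCover (Subgroup.centralizer ({t} : Set Spor.McL)) (alternatingGroup (Fin 8)) := by
  refine ⟨fun x y hx hy => ?_, ⟨eMcL.symm tt, ?_, ?_⟩⟩
  · obtain ⟨g, hg⟩ := conj_tt ((MulEquiv.orderOf_eq eMcL x).trans hx)
    obtain ⟨k, hk⟩ := conj_tt ((MulEquiv.orderOf_eq eMcL y).trans hy)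
    refine isConj_iff.2 ⟨eMcL.symm (k⁻¹ * g), eMcL.injective ?_⟩
    rw [map_mul, map_mul, map_inv, MulEquiv.apply_symm_apply,
      show k⁻¹ * g * eMcL x * (k⁻¹ * g)⁻¹ = k⁻¹ * (g * eMcL x * g⁻¹) * k by group, hg, ← hk]
    group
  · rw [MulEquiv.orderOf_eq]; exact orderOf_tt
  · have hmap : (Subgroup.centralizer ({eMcL.symm tt} : Set Spor.McL)).map eMcL.toMonoidHom = cent := by
      ext u
      simp only [Subgroup.mem_map_equiv, Subgroup.mem_centralizer_singleton_iff]
      rw [← map_mul, ← map_mul, eMcL.symm.injective.eq_iff]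
    let e : Subgroup.centralizer ({eMcL.symm tt} : Set Spor.McL) ≃* cent :=
      ((Subgroup.centralizer ({eMcL.symm tt} : Set Spor.McL)).equivMapOfInjective eMcL.toMonoidHom
        eMcL.injective).trans (MulEquiv.subgroupCongr hmap)
    obtain ⟨hin, hsq⟩ := root_check
    obtain ⟨ρ, hρ⟩ := exists_lst hin
    have hρz : ρ * ρ = zeta := lst_injective (by rw [lst_mul, hρ, hsq, lst_zeta])
    have hρc : j ρ ∈ cent := by
      rw [Subgroup.mem_centralizer_singleton_iff, tt, ← hρz, map_mul, mul_assoc]
    refine double_cover (letterHom.comp e.toMonoidHom) (z := e.symm ttC) (r := e.symm ⟨j ρ, hρc⟩) ?_ ?_ ?_ ?_ ?_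
    · rw [Nat.card_congr e.toEquiv, card_cent]
    · ext g
      rw [MonoidHom.mem_ker, MonoidHom.comp_apply, ← MonoidHom.mem_ker, ker_letterHom]
      rw [← Subgroup.mem_map_iff_mem (f := e.toMonoidHom) e.injective (K := Subgroup.zpowers (e.symm ttC)),
        MonoidHom.map_zpowers]
      simp
    · rw [MulEquiv.orderOf_eq]; exact orderOf_ttC
    · intro g
      refine e.injective ?_
      rw [map_mul, map_mul, MulEquiv.apply_symm_apply]
      exact ttC_central _
    · rw [← map_mul]
      refine congrArg e.symm (Subtype.ext ?_)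
      show j ρ * j ρ = tt
      rw [← map_mul, hρz]
      rfl

end Cfsg.Agent.McLCent
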