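import Cfsg.Agent.McLCent.Data
import Cfsg.Agent.McLFusion.Main
import Cfsg.Agent.McLSimple.RankThree275

/-!
# The centraliser of an involution of the McLaughlin group has order 40320

One class of involutions in the stabiliser of a third vector gives one class in the whole group,
and makes the centraliser transitive on the 105 fixed points among the 2025.
-/

set_option autoImplicit false
set_option maxRecDepth 100000
set_option maxHeartbeats 1000000
set_option linter.style.haveILetI false

namespace Cfsg.Agent.McLCent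

open Cfsg CfsgLib CfsgLib.Golay CfsgLib.Golay.SylowCert MulAction McLSimple
open scoped Pointwise
open CfsgLib.McLFusion (M iM PM j iM_injective j_injective pc_mem)

attribute [local irreducible] CfsgLib.Leech.shortVecs CfsgLib.Leech.halfTable CfsgLib.Leech.quarterTable

/-- The position list of an element of the two-point stabiliser. -/
noncomputable def lst (σ : M) : List ℕ := toList (iM σ)

theorem lst_injective : Function.Injective lst := fun _ _ h => iM_injective (toList_injective h)

theorem lst_mul (σ τ : M) : lst (σ * τ) = compL (lst σ) (lst τ) := by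
  rw [lst, map_mul, toList_mul]; rfl

theorem lst_inv (σ : M) : lst σ⁻¹ = invL (lst σ) := by rw [lst, map_inv, toList_inv]; rfl

theorem lst_one : lst 1 = List.range 24 := by rw [lst, map_one, toList_one]

theorem exists_lst {L : List ℕ} (h : In22 L) : ∃ σ : M, lst σ = L := by
  obtain ⟨⟨hm, h0⟩, h1⟩ := permL_mem_M22 h
  exact ⟨⟨⟨permL L, hm⟩, h0, h1⟩, toList_permL h.1 h.2.1⟩

/-- Conjugation of position lists. -/
def conjL (g L : List ℕ) : List ℕ := compL (compL g L) (invL g)

theorem lst_conj (g σ : M) : lst (g * σ * g⁻¹) = conjL (lst g) (lst σ) := by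
  rw [lst_mul, lst_mul, lst_inv]; rfl

theorem exists_zeta : ∃ z : M, z ∈ PM ∧ lst z = m22Z := by
  obtain ⟨σ, hσ, hl⟩ := exists_of_mem_els pc22 7 le_rfl m22Z (by decide +kernel)
  obtain ⟨z, rfl⟩ := pc_mem hσ
  exact ⟨z, hσ, hl⟩

/-- The central involution of the Sylow 2-subgroup. -/
noncomputable def zeta : M := exists_zeta.choose

theorem zeta_mem : zeta ∈ PM := exists_zeta.choose_spec.1

theorem lst_zeta : lst zeta = m22Z := exists_zeta.choose_spec.2

theorem orderOf_zeta : orderOf zeta = 2 := by
  refine orderOf_eq_prime (hp := ⟨Nat.prime_two⟩) (lst_injective ?_) fun h => ?_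
  · rw [pow_two, lst_mul, lst_zeta, lst_one]; decide +kernel
  · have := congrArg lst h
    rw [lst_zeta, lst_one] at this
    exact absurd this (by decide +kernel)

theorem card_M : Nat.card M = 443520 := card_stab_pair none (some 0) (by simp)

theorem els_conj : ∀ L ∈ els m22Pc 7, compL L L = List.range 24 → L = List.range 24 ∨
    ∃ g ∈ conjList, conjL g L = m22Z := by decide +kernel

theorem conjList_ok : ∀ g ∈ conjList, In22 g := by decide +kernel

theorem finite_M : Finite M := Nat.finite_of_card_ne_zero (by rw [card_M]; norm_num)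

/-- The stabiliser of the two points has one class of involutions. -/
theorem conj_zeta {u : M} (hu : orderOf u = 2) : ∃ g : M, g * u * g⁻¹ = zeta := by
  haveI := finite_M
  haveI : Fact (Nat.Prime 2) := ⟨Nat.prime_two⟩
  have hfac : (Nat.card M).factorization 2 = 7 :=
    factorization_two (m := 3465) (by rw [card_M]; norm_num) (by norm_num)
  let Q : Sylow 2 M := Sylow.ofCard PM (by rw [CfsgLib.McLFusion.card_PM, hfac]; rfl)
  have hQ : (Q : Subgroup M) = PM := Sylow.coe_ofCard ..
  obtain ⟨P, hP⟩ := (IsPGroup.of_card (p := 2) (n := 1)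
    (show Nat.card (Subgroup.zpowers u) = 2 ^ 1 by rw [Nat.card_zpowers, hu, pow_one])).exists_le_sylow
  obtain ⟨a, ha⟩ := MulAction.exists_smul_eq M P Q
  have hmem : a * u * a⁻¹ ∈ PM := by
    have h1 : MulAut.conj a • u ∈ (MulAut.conj a • (P : Subgroup M)) :=
      Subgroup.smul_mem_pointwise_smul _ _ _ (hP (Subgroup.mem_zpowers u))
    rw [← Sylow.pointwise_smul_def, show MulAut.conj a • P = a • P from rfl, ha, hQ] at h1
    exact h1
  have hel : lst (a * u * a⁻¹) ∈ els m22Pc 7 := (mem_pcGroup pc22 7 le_rfl _).1 hmem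
  have hsq : compL (lst (a * u * a⁻¹)) (lst (a * u * a⁻¹)) = List.range 24 := by
    rw [← lst_mul, ← lst_one]
    refine congrArg lst ?_
    rw [show a * u * a⁻¹ * (a * u * a⁻¹) = a * (u * u) * a⁻¹ by group, ← pow_two,
      show u ^ 2 = 1 from hu ▸ pow_orderOf_eq_one u, mul_one, mul_inv_cancel]
  rcases els_conj _ hel hsq with h | ⟨g, hg, hgz⟩
  · rw [← lst_one] at h
    have := lst_injective h
    rw [conj_eq_one_iff] at this
    rw [this, orderOf_one] at hu
    exact absurd hu (by norm_num)
  obtain ⟨b, hb⟩ := exists_lst (conjList_ok g hg)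
  refine ⟨b * a, lst_injective ?_⟩
  rw [lst_zeta, ← hgz, ← hb, ← lst_conj]
  exact congrArg lst (by group)

/-- Conjugates of the involution by words. -/
def wordConj : List ℕ → List ℕ
  | [] => m22Z
  | k :: w => conjL (orbGens.getD k []) (wordConj w)

/-- A code for a position list. -/
def codeL (L : List ℕ) : ℕ := L.foldr (fun x a => (x + 1) + 32 * a) 0

theorem orbGens_in22 : ∀ A ∈ orbGens, In22 A := by decide +kernel

theorem class_checks : incr (classWords.map (codeL ∘ wordConj)) = true ∧
    (classWords.all fun w => w.all fun k => decide (k < orbGens.length)) = true ∧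
    classWords.length = 1155 := by decide +kernel

theorem exists_wordConj : ∀ w : List ℕ, (∀ k ∈ w, k < orbGens.length) →
    ∃ g : M, lst (g * zeta * g⁻¹) = wordConj w
  | [], _ => ⟨1, by rw [one_mul, inv_one, mul_one, lst_zeta]; rfl⟩
  | k :: w, hw => by
    obtain ⟨g, hg⟩ := exists_wordConj w fun i hi => hw i (List.mem_cons_of_mem _ hi)
    have hk : k < orbGens.length := hw k List.mem_cons_self
    have hA : orbGens.getD k [] ∈ orbGens := by
      rw [List.getD_eq_getElem _ _ hk]; exact List.getElem_mem hk
    obtain ⟨a, ha⟩ := exists_lst (orbGens_in22 _ hA)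
    refine ⟨a * g, ?_⟩
    rw [show a * g * zeta * (a * g)⁻¹ = a * (g * zeta * g⁻¹) * a⁻¹ by group, lst_conj, hg, ha]
    rfl

theorem pc_commute : ∀ L ∈ els m22Pc 7, compL L m22Z = compL m22Z L := by decide +kernel

theorem three_check : In22 threeElt ∧ compL threeElt m22Z = compL m22Z threeElt ∧
    compL threeElt (compL threeElt threeElt) = List.range 24 ∧ threeElt ≠ List.range 24 := by
  decide +kernel

theorem card_cent_zeta : Nat.card (Subgroup.centralizer ({zeta} : Set M)) = 384 := by
  haveI := finite_M
  set K := Subgroup.centralizer ({zeta} : Set M) with hK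
  have hupper : 1155 ≤ K.index := by
    obtain ⟨hincr, hall, hlen⟩ := class_checks
    simp only [List.all_eq_true, decide_eq_true_eq] at hall
    have hnd : (classWords.map wordConj).Nodup := by
      refine List.Nodup.of_map codeL ?_
      rw [List.map_map]
      exact (incr_pairwise _ hincr).imp ne_of_lt
    have hidx : K.index = (orbit (ConjAct M) zeta).ncard := by
      rw [← index_stabilizer, ConjAct.stabilizer_eq_centralizer]
      rfl
    rw [hidx, ← hlen, ← List.length_map (f := wordConj), ← List.toFinset_card_of_nodup hnd,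
      ← Set.ncard_coe_finset]
    refine le_trans (Set.ncard_le_ncard ?_ ((Set.toFinite _).image lst)) (Set.ncard_image_le (f := lst) (Set.toFinite _))
    intro L hL
    rw [List.coe_toFinset, Set.mem_ofPred_eq, List.mem_map] at hL
    obtain ⟨w, hw, rfl⟩ := hL
    obtain ⟨g, hg⟩ := exists_wordConj w (hall w hw)
    exact ⟨_, ⟨ConjAct.toConjAct g, rfl⟩, hg⟩
  have hlow : 384 ∣ Nat.card K := by
    have h1 : PM ≤ K := by
      intro σ hσ
      rw [hK, Subgroup.mem_centralizer_singleton_iff]
      refine lst_injective ?_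
      rw [lst_mul, lst_mul, lst_zeta]
      exact pc_commute _ ((mem_pcGroup pc22 7 le_rfl _).1 hσ)
    have d1 : 128 ∣ Nat.card K := CfsgLib.McLFusion.card_PM ▸ Subgroup.card_dvd_of_le h1
    obtain ⟨hin, hcomm, hcube, hne⟩ := three_check
    obtain ⟨c, hc⟩ := exists_lst hin
    have hcK : c ∈ K := by
      rw [hK, Subgroup.mem_centralizer_singleton_iff]
      refine lst_injective ?_
      rw [lst_mul, lst_mul, lst_zeta, hc]
      exact hcomm
    have hord : orderOf c = 3 := by
      haveI : Fact (Nat.Prime 3) := ⟨Nat.prime_three⟩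
      refine orderOf_eq_prime (lst_injective ?_) fun h => hne ?_
      · rw [show c ^ 3 = c * (c * c) by rw [pow_succ, pow_two, mul_assoc], lst_mul, lst_mul, hc, lst_one]
        exact hcube
      · rw [← hc, h, lst_one]
    have d3 : 3 ∣ Nat.card K := hord ▸ Subgroup.orderOf_dvd_natCard K hcK
    exact Nat.Coprime.mul_dvd_of_dvd_of_dvd (by norm_num : Nat.Coprime 128 3) d1 d3
  have h := K.card_mul_index
  rw [card_M] at h
  have hle := Nat.le_of_dvd Nat.card_pos hlow
  nlinarith [Nat.mul_le_mul hle hupper]

/-- The involution of the larger group. -/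
noncomputable def tt : mclStab := j zeta

theorem orderOf_tt : orderOf tt = 2 := (orderOf_injective j j_injective zeta).trans orderOf_zeta

theorem finite_stab : Finite mclStab := Nat.finite_of_card_ne_zero (by rw [card_mclStab]; norm_num)

/-- One class of involutions. -/
theorem conj_tt {u : mclStab} (hu : orderOf u = 2) : ∃ g : mclStab, g * u * g⁻¹ = tt := by
  haveI := finite_stab
  haveI : Fact (Nat.Prime 2) := ⟨Nat.prime_two⟩
  have hfac : (Nat.card mclStab).factorization 2 = 7 :=
    factorization_two (m := 7016625) (by rw [card_mclStab]; norm_num) (by norm_num)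
  let Q : Sylow 2 mclStab := Sylow.ofCard (PM.map j) (by
    rw [Subgroup.card_map_of_injective j_injective, CfsgLib.McLFusion.card_PM, hfac]; rfl)
  have hQ : (Q : Subgroup mclStab) = PM.map j := Sylow.coe_ofCard ..
  obtain ⟨P, hP⟩ := (IsPGroup.of_card (p := 2) (n := 1)
    (show Nat.card (Subgroup.zpowers u) = 2 ^ 1 by rw [Nat.card_zpowers, hu, pow_one])).exists_le_sylow
  obtain ⟨a, ha⟩ := MulAction.exists_smul_eq mclStab P Q
  have hmem : a * u * a⁻¹ ∈ PM.map j := by
    have h1 : MulAut.conj a • u ∈ (MulAut.conj a • (P : Subgroup mclStab)) :=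
      Subgroup.smul_mem_pointwise_smul _ _ _ (hP (Subgroup.mem_zpowers u))
    rw [← Sylow.pointwise_smul_def, show MulAut.conj a • P = a • P from rfl, ha, hQ] at h1
    exact h1
  obtain ⟨σ, -, hσ⟩ := hmem
  have hσ2 : orderOf σ = 2 := by
    rw [← orderOf_injective j j_injective, hσ, ← hu]
    exact orderOf_injective (MulAut.conj a).toMonoidHom (MulAut.conj a).injective u
  obtain ⟨b, hb⟩ := conj_zeta hσ2
  refine ⟨j b * a, ?_⟩
  rw [show j b * a * u * (j b * a)⁻¹ = j b * (a * u * a⁻¹) * (j b)⁻¹ by group, ← hσ, ← map_inv,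
    ← map_mul, ← map_mul, hb]
  rfl

theorem act_toL (σ : M) (x : GolayPt → ℤ) :
    act (lst σ) (toL x) = toL fun p => x ((iM σ) p) := by
  simp only [act, lst, toList, toL, List.map_map]
  refine List.map_congr_left fun i hi => ?_
  simp only [Function.comp_apply]
  exact (getD_toL x (idx_lt _)).trans (by rw [pt_idx])

/-- Fixed vectors of a permutation, by coordinates. -/
theorem fix_iff (σ : M) (x : leechLattice) :
    ((j σ : mclStab) : Co0) • x = x ↔ act (lst σ) (toL (x : GolayPt → ℤ)) = toL (x : GolayPt → ℤ) := by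
  rw [CfsgLib.McLFusion.j_val, act_toL, toL_injective.eq_iff]
  constructor
  · intro h
    funext p
    have := congrFun (congrArg Subtype.val h) ((iM σ) p)
    rw [Leech.permHom_apply] at this
    exact this.symm.trans (congrArg _ (Equiv.symm_apply_apply (iM σ) p))
  · intro h
    refine Subtype.ext (funext fun p => ?_)
    rw [Leech.permHom_apply]
    have := congrFun h (((σ : M24) : Equiv.Perm GolayPt)⁻¹ p)
    exact this.symm.trans (congrArg _ (Equiv.apply_symm_apply _ p))

/-- The 2025 points as coordinate lists. -/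
def zList : List (List ℤ) :=
  toL Spor.vecU' :: (wordsZero.map (reach baseZero) ++ (wordsTwo.map (reach baseTwo) ++ wordsOne.map (reach baseOne)))

theorem zList_marks : (toL Spor.vecU').getD 23 0 = 4 ∧ (∀ l ∈ wordsZero.map (reach baseZero), l.getD 23 0 = 0) ∧
    (∀ l ∈ wordsTwo.map (reach baseTwo), l.getD 23 0 = 2) ∧ (∀ l ∈ wordsOne.map (reach baseOne), l.getD 23 0 = 1) := by
  decide +kernel

theorem zList_nodup : zList.Nodup := by
  obtain ⟨m4, m0, m2, m1⟩ := zList_marks
  have nd : ∀ (base : List ℤ) (ws : List (List ℕ)), incr (ws.map (enc ∘ reach base)) = true →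
      (ws.map (reach base)).Nodup := fun base ws h => by
    refine List.Nodup.of_map enc ?_
    rw [List.map_map]
    exact (incr_pairwise _ h).imp ne_of_lt
  rw [zList, List.nodup_cons]
  refine ⟨fun h => ?_, (nd _ _ reach_zero.1).append ((nd _ _ reach_two.1).append (nd _ _ reach_one.1) ?_) ?_⟩
  · rw [List.mem_append, List.mem_append] at h
    rcases h with h | h | h
    · have := m0 _ h; omega
    · have := m2 _ h; omega
    · have := m1 _ h; omega
  · intro l h h'
    have := m2 l h; have := m1 l h'; omega
  · intro l h h'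
    have := m0 l h
    rw [List.mem_append] at h'
    rcases h' with h' | h'
    · have := m2 l h'; omega
    · have := m1 l h'; omega

theorem zList_length : zList.length = 2025 := by decide +kernel

theorem mem_words {base : List ℤ} {words : List (List ℕ)}
    (hall : (words.all fun w => w.all fun k => decide (k < orbGens.length)) = true)
    (htest : Leech.LeechTest fun p => base.getD (idx p) 0) (hlen : base.length = 24)
    (hz : InZ fun p => base.getD (idx p) 0) {l : List ℤ} (hl : l ∈ words.map (reach base)) :
    ∃ x ∈ zSet, toL (x : GolayPt → ℤ) = l := by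
  simp only [List.all_eq_true, decide_eq_true_eq] at hall
  obtain ⟨w, hw, rfl⟩ := List.mem_map.1 hl
  set y : leechLattice := ⟨fun p => base.getD (idx p) 0, Leech.mem_of_test htest⟩ with hy
  have hyb : toL (y : GolayPt → ℤ) = base := by
    refine List.ext_getElem (by simp [toL, hlen]) fun i h1 h2 => ?_
    have hi : i < 24 := by simpa [toL] using h1
    simp only [toL, List.getElem_map, List.getElem_range, hy, idx_pt i hi]
    exact List.getD_eq_getElem _ _ h2
  obtain ⟨g, hg, he⟩ := exists_reach hyb w (hall w hw)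
  exact ⟨g • y, inZ_smul hg.1 hz, he⟩

theorem image_zSet : (fun x : leechLattice => toL (x : GolayPt → ℤ)) '' zSet = ↑zList.toFinset := by
  have hfin : zSet.Finite := Set.finite_of_ncard_pos (by rw [ncard_zSet]; norm_num)
  refine (Set.eq_of_subset_of_ncard_le ?_ ?_ (hfin.image _)).symm
  · intro l hl
    rw [List.coe_toFinset, Set.mem_ofPred_eq, zList, List.mem_cons, List.mem_append, List.mem_append] at hl
    rcases hl with rfl | hl | hl | hl
    · exact ⟨Spor.leechU', inZ_base, rfl⟩
    · exact mem_words reach_zero.2.1 (by decide +kernel) (by decide +kernel) (by unfold InZ; decide +kernel) hl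
    · exact mem_words reach_two.2.1 (by decide +kernel) (by decide +kernel) (by unfold InZ; decide +kernel) hl
    · exact mem_words reach_one.2.1 (by decide +kernel) (by decide +kernel) (by unfold InZ; decide +kernel) hl
  · rw [Set.ncard_coe_finset, List.toFinset_card_of_nodup zList_nodup, zList_length,
      Set.ncard_image_of_injective _ toL_coe_injective, ncard_zSet]

theorem fixed_count : (zList.filter fun l => decide (act m22Z l = l)).length = 105 := by decide +kernel

/-- The fixed points among the 2025. -/
def fixedZ : Set leechLattice := {x | x ∈ zSet ∧ (tt : Co0) • x = x}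

theorem ncard_fixedZ : fixedZ.ncard = 105 := by
  rw [← Set.ncard_image_of_injective fixedZ toL_coe_injective, ← fixed_count,
    ← List.toFinset_card_of_nodup (zList_nodup.filter _), ← Set.ncard_coe_finset]
  congr 1
  ext l
  rw [List.coe_toFinset, Set.mem_ofPred_eq, List.mem_filter, decide_eq_true_eq]
  constructor
  · rintro ⟨x, ⟨hx, hfix⟩, rfl⟩
    refine ⟨?_, ?_⟩
    · have : toL (x : GolayPt → ℤ) ∈ (↑zList.toFinset : Set (List ℤ)) := image_zSet ▸ ⟨x, hx, rfl⟩
      simpa using this
    · rw [← lst_zeta]; exact (fix_iff zeta x).1 hfix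
  · rintro ⟨hl, hfix⟩
    obtain ⟨x, hx, rfl⟩ : l ∈ (fun x : leechLattice => toL (x : GolayPt → ℤ)) '' zSet := by
      rw [image_zSet]; simpa using hl
    exact ⟨x, ⟨hx, (fix_iff zeta x).2 (by rw [lst_zeta]; exact hfix)⟩, rfl⟩

/-- The centraliser. -/
abbrev cent : Subgroup mclStab := Subgroup.centralizer ({tt} : Set mclStab)

theorem j_fix_base (σ : M) : ((j σ : mclStab) : Co0) • Spor.leechU' = Spor.leechU' := (tripleEquiv σ).2.2

theorem exists_j {u : mclStab} (hu : (u : Co0) • Spor.leechU' = Spor.leechU') : ∃ σ : M, j σ = u := by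
  obtain ⟨σ, hσ⟩ := tripleEquiv.surjective ⟨(u : Co0), u.2, hu⟩
  exact ⟨σ, Subtype.ext (congrArg Subtype.val hσ :)⟩

theorem orbit_base : orbit cent Spor.leechU' = fixedZ := by
  ext x
  constructor
  · rintro ⟨g, rfl⟩
    refine ⟨inZ_smul (g : mclStab).2 inZ_base, ?_⟩
    show (tt : Co0) • ((g : mclStab) : Co0) • Spor.leechU' = ((g : mclStab) : Co0) • Spor.leechU'
    have hg : ((g : mclStab) : Co0) * (tt : Co0) = (tt : Co0) * ((g : mclStab) : Co0) :=
      congrArg Subtype.val (Subgroup.mem_centralizer_singleton_iff.1 g.2)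
    rw [← mul_smul, ← hg, mul_smul]
    exact congrArg _ (j_fix_base zeta)
  · rintro ⟨hx, hfix⟩
    rw [← orbit_eq_zSet] at hx
    obtain ⟨g, rfl⟩ := hx
    have hfix' : ((g⁻¹ * tt * g : mclStab) : Co0) • Spor.leechU' = Spor.leechU' := by
      rw [Subgroup.coe_mul, Subgroup.coe_mul, InvMemClass.coe_inv, mul_smul, mul_smul, inv_smul_eq_iff]
      exact hfix
    obtain ⟨σ, hσ⟩ := exists_j hfix'
    have hσ2 : orderOf σ = 2 := by
      rw [← orderOf_injective j j_injective, hσ, ← orderOf_tt]
      convert orderOf_injective (MulAut.conj g⁻¹).toMonoidHom (MulAut.conj g⁻¹).injective tt using 2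
      simp
    obtain ⟨m, hm⟩ := conj_zeta hσ2
    have hc : g * (j m)⁻¹ ∈ cent := by
      rw [Subgroup.mem_centralizer_singleton_iff]
      have h1 : j m * (g⁻¹ * tt * g) * (j m)⁻¹ = tt := by
        rw [← hσ, ← map_inv, ← map_mul, ← map_mul, hm]; rfl
      calc g * (j m)⁻¹ * tt = g * (j m)⁻¹ * (j m * (g⁻¹ * tt * g) * (j m)⁻¹) := by rw [h1]
        _ = tt * (g * (j m)⁻¹) := by group
    refine ⟨⟨_, hc⟩, ?_⟩
    show ((g * (j m)⁻¹ : mclStab) : Co0) • Spor.leechU' = (g : Co0) • Spor.leechU'
    rw [Subgroup.coe_mul, mul_smul, InvMemClass.coe_inv, inv_smul_eq_iff.2 (j_fix_base m).symm]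

theorem card_cent : Nat.card cent = 40320 := by
  have he : Nat.card (stabilizer cent Spor.leechU') = 384 := by
    rw [← card_cent_zeta]
    refine (Nat.card_congr (Equiv.ofBijective
      (fun σ : Subgroup.centralizer ({zeta} : Set M) => (⟨⟨j σ, Subgroup.mem_centralizer_singleton_iff.2 (by
        show j (σ : M) * j zeta = j zeta * j (σ : M)
        rw [← map_mul, ← map_mul, Subgroup.mem_centralizer_singleton_iff.1 σ.2])⟩,
        j_fix_base σ⟩ : stabilizer cent Spor.leechU')) ⟨?_, ?_⟩)).symm
    · intro a b h
      exact Subtype.ext (j_injective (congrArg (fun u : stabilizer cent Spor.leechU' => ((u : cent) : mclStab)) h))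
    · intro u
      obtain ⟨σ, hσ⟩ := exists_j (u := ((u : cent) : mclStab)) u.2
      refine ⟨⟨σ, Subgroup.mem_centralizer_singleton_iff.2 (j_injective ?_)⟩, Subtype.ext (Subtype.ext hσ)⟩
      rw [map_mul, map_mul, hσ]
      exact Subgroup.mem_centralizer_singleton_iff.1 (u : cent).2
  have h := (stabilizer cent Spor.leechU').card_mul_index
  rw [he, index_stabilizer, orbit_base, ncard_fixedZ] at h
  exact h.symm

end Cfsg.Agent.McLCent
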